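import Cfsg.Agent.RegularLinear.Field
import Cfsg.Agent.CoprimeTransitive.Partition

/-!
# Class numbers of a transitive linear group and of a point stabiliser

`Good ρ`: the sum of the class numbers of the group and of the stabiliser of a nonzero vector is at
most the number of vectors, and equality needs a cyclic group, `(8, 21)` or `(9, 16)`.
`good_of_selfCentralizing`: this holds if there is a self-centralising abelian normal subgroup.
-/

set_option autoImplicit false
set_option linter.style.haveILetI false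
set_option linter.unusedSectionVars false

namespace CfsgLib.FGS74.TransKGV

universe u

variable {p : ℕ} [Fact p.Prime] {V : Type u} [AddCommGroup V] [Module (ZMod p) V] [Finite V]
  [Nontrivial V] {G : Type*} [Group G] [Finite G]

/-- The stabiliser of a vector. -/
def stab (ρ : G →* (V ≃ₗ[ZMod p] V)) (v : V) : Subgroup G where
  carrier := {g | ρ g v = v}
  one_mem' := by simp
  mul_mem' := fun {g h} hg hh => by
    show ρ (g * h) v = v
    rw [map_mul, LinearEquiv.mul_apply, hh, hg]
  inv_mem' := fun {g} hg => by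
    show ρ g⁻¹ v = v
    conv_lhs => rw [← hg]
    rw [← LinearEquiv.mul_apply, ← map_mul, inv_mul_cancel, map_one, LinearEquiv.coe_one, id_eq]

theorem mem_stab {ρ : G →* (V ≃ₗ[ZMod p] V)} {v : V} {g : G} : g ∈ stab ρ v ↔ ρ g v = v := Iff.rfl

/-- The bound on class numbers with its equality cases. -/
def Good (ρ : G →* (V ≃ₗ[ZMod p] V)) : Prop :=
  ∀ v : V, v ≠ 0 →
    Nat.card (ConjClasses G) + Nat.card (ConjClasses (stab ρ v)) ≤ Nat.card V ∧
    (Nat.card (ConjClasses G) + Nat.card (ConjClasses (stab ρ v)) = Nat.card V →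
      IsCyclic G ∨ (Nat.card V = 8 ∧ Nat.card G = 21) ∨ (Nat.card V = 9 ∧ Nat.card G = 16))

theorem card_eq (ρ : G →* (V ≃ₗ[ZMod p] V))
    (htrans : ∀ v w : V, v ≠ 0 → w ≠ 0 → ∃ g : G, ρ g v = w) {v : V} (hv : v ≠ 0) :
    Nat.card G = (Nat.card V - 1) * Nat.card (stab ρ v) := by
  classical
  letI : MulAction G V :=
    { smul := fun g w => ρ g w
      one_smul := fun w => by show ρ 1 w = w; simp
      mul_smul := fun g h w => by show ρ (g * h) w = ρ g (ρ h w); simp }
  have hst : MulAction.stabilizer G v = stab ρ v := Subgroup.ext fun g => Iff.rfl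
  have horb : MulAction.orbit G v = ({(0 : V)}ᶜ : Set V) := by
    ext w
    rw [Set.mem_compl_iff, Set.mem_singleton_iff, MulAction.mem_orbit_iff]
    refine ⟨?_, fun hw => htrans v w hv hw⟩
    rintro ⟨g, rfl⟩
    exact (LinearEquiv.map_ne_zero_iff (ρ g)).2 hv
  rw [← hst, ← (MulAction.stabilizer G v).index_mul_card, MulAction.index_stabilizer, horb,
    Set.ncard_compl, Set.ncard_singleton]

theorem classes_le_card (H : Type*) [Group H] [Finite H] :
    Nat.card (ConjClasses H) ≤ Nat.card H :=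
  Nat.card_le_card_of_surjective ConjClasses.mk ConjClasses.mk_surjective

theorem card_space_ge_two : 2 ≤ Nat.card V := Finite.one_lt_card

/-- A regular group satisfies the bound. -/
theorem good_of_regular (ρ : G →* (V ≃ₗ[ZMod p] V)) (hρ : Function.Injective ρ)
    (htrans : ∀ v w : V, v ≠ 0 → w ≠ 0 → ∃ g : G, ρ g v = w)
    (hreg : Nat.card G = Nat.card V - 1) : Good ρ := by
  intro v hv
  have h2 : 2 ≤ Nat.card V := card_space_ge_two
  have hs : Nat.card (stab ρ v) = 1 := by
    have h := card_eq ρ htrans hv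
    rw [hreg] at h
    exact Nat.eq_of_mul_eq_mul_left (show 0 < Nat.card V - 1 by omega) (by rw [← h, mul_one])
  have h1 := classes_le_card (stab ρ v)
  have h3 := classes_le_card G
  refine ⟨by omega, fun he => Or.inl ?_⟩
  have hk : Nat.card (ConjClasses G) = Nat.card G := by omega
  have hbij := (Nat.bijective_iff_surjective_and_card (ConjClasses.mk : G → ConjClasses G)).2
    ⟨ConjClasses.mk_surjective, hk.symm⟩
  have hcomm : ∀ a b : G, a * b = b * a := fun a b => by
    have h : ConjClasses.mk (a * b) = ConjClasses.mk (b * a) :=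
      ConjClasses.mk_eq_mk_iff_isConj.2 (isConj_iff.2 ⟨b, by group⟩)
    exact hbij.1 h
  obtain ⟨K, _, _, _, χ, -, -, -, -, -, hχ, -, -, -⟩ := RegLinear.exists_field_data ρ hρ htrans ⊤
    fun a _ b _ => hcomm a b
  let f : G →* K := (Units.coeHom K).comp (χ.comp (Subgroup.topEquiv (G := G)).symm.toMonoidHom)
  exact isCyclic_of_injective_ringHom f fun a b hab =>
    (Subgroup.topEquiv (G := G)).symm.injective (hχ (Units.val_injective hab))

theorem two_mul_add_two_le {M : ℕ} (hM : 3 ≤ M) : 2 * M + 2 ≤ 2 ^ M := by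
  induction M, hM using Nat.le_induction with
  | base => norm_num
  | succ k _ ih =>
    have : 2 ^ (k + 1) = 2 * 2 ^ k := by ring
    omega

/-- The arithmetic of the semilinear case. -/
theorem semilinear_arith {p j r e : ℕ} (hp : p.Prime) (hj : 1 ≤ j) (hr : 2 ≤ r) (he : e ≤ j * r)
    (h2r : p = 2 → 3 ≤ r) :
    (e + 1) * p ^ j + 1 ≤ p ^ (j * r) ∨ (p = 2 ∧ j = 1 ∧ r = 3) ∨ (p = 3 ∧ j = 1 ∧ r = 2) := by
  obtain ⟨s, rfl⟩ : ∃ s, r = s + 2 := ⟨r - 2, by omega⟩
  have hq : p ^ (j * (s + 2)) = p ^ (j * (s + 1)) * p ^ j := by rw [← pow_add]; ring_nf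
  have key : j * (s + 2) + 2 ≤ p ^ (j * (s + 1)) →
      (e + 1) * p ^ j + 1 ≤ p ^ (j * (s + 2)) := by
    intro h
    rw [hq]
    calc (e + 1) * p ^ j + 1 ≤ (e + 1) * p ^ j + p ^ j :=
          Nat.add_le_add_left (Nat.one_le_pow _ _ hp.pos) _
      _ = (e + 2) * p ^ j := by ring
      _ ≤ _ := Nat.mul_le_mul_right _ (by omega)
  have hM : j * (s + 2) ≤ 2 * (j * (s + 1)) := by nlinarith
  have hM1 : j ≤ j * (s + 1) := Nat.le_mul_of_pos_right j (by omega)
  have hM2 : s + 1 ≤ j * (s + 1) := Nat.le_mul_of_pos_left (s + 1) hj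
  rcases Nat.lt_or_ge (j * (s + 1)) 3 with h3 | h3
  · rcases Nat.lt_or_ge (j * (s + 1)) 2 with h2 | h2
    · obtain rfl : j = 1 := by omega
      obtain rfl : s = 0 := by omega
      by_cases hp3 : p = 3
      · exact Or.inr (Or.inr ⟨hp3, rfl, rfl⟩)
      refine Or.inl (key ?_)
      have := hp.two_le
      have : p ≠ 2 := fun h => by have := h2r h; omega
      have : p ≠ 4 := fun h => by subst h; norm_num at hp
      norm_num
      omega
    · by_cases hp2 : p = 2
      · have := h2r hp2
        obtain rfl : s = 1 := by omega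
        obtain rfl : j = 1 := by omega
        exact Or.inr (Or.inl ⟨hp2, rfl, rfl⟩)
      refine Or.inl (key ?_)
      have hp3 : 3 ≤ p := by have := hp.two_le; omega
      have h9 : 3 ^ 2 ≤ p ^ (j * (s + 1)) :=
        (Nat.pow_le_pow_left hp3 2).trans (Nat.pow_le_pow_right hp.pos h2)
      omega
  · refine Or.inl (key ?_)
    have := (two_mul_add_two_le h3).trans (Nat.pow_le_pow_left hp.two_le _)
    omega

theorem sum_bound {k a e f h q : ℕ} (he : 2 ≤ e) (hf : 1 ≤ f) (hk : k * e ≤ a + (e * e - 1) * (f - 1))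
    (ha : a ≤ q - 1) (hq : 1 ≤ q) (hh : h ≤ e) (hmain : (e + 1) * f + 1 ≤ q) : k + h < q := by
  obtain ⟨x, rfl⟩ : ∃ x, e = x + 1 := ⟨e - 1, by omega⟩
  obtain ⟨t, rfl⟩ : ∃ t, f = t + 1 := ⟨f - 1, by omega⟩
  have e1 : (x + 1) * (x + 1) - 1 = x * (x + 2) := Nat.sub_eq_of_eq_add (by ring)
  rw [e1, Nat.add_sub_cancel] at hk
  by_contra hlt
  have h1 : q * (x + 1) ≤ (k + h) * (x + 1) := Nat.mul_le_mul_right _ (by omega)
  have h2 : x * ((x + 2) * (t + 1) + 1) ≤ x * q := Nat.mul_le_mul_left _ hmain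
  have h3 : h * (x + 1) ≤ (x + 1) * (x + 1) := Nat.mul_le_mul_right _ hh
  have h4 : a + 1 ≤ q := by omega
  nlinarith

/-- The field of fixed points of a field automorphism. -/
theorem fixed_card {K : Type*} [Field K] [Finite K] (σ : K ≃+* K) :
    ∃ F : Subfield K, (∀ x : K, σ x = x → x ∈ F) ∧ Nat.card K = Nat.card F ^ orderOf σ := by
  classical
  haveI : Finite (K ≃+* K) := Finite.of_injective (fun s : K ≃+* K => (s : K → K)) DFunLike.coe_injective
  let S : Subgroup (K ≃+* K) := Subgroup.zpowers σ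
  refine ⟨FixedPoints.subfield S K, fun x hx => ?_, ?_⟩
  · rintro ⟨s, hs⟩
    have hle : S ≤ MulAction.stabilizer (K ≃+* K) x := Subgroup.zpowers_le.2 hx
    exact hle hs
  · haveI : Fintype S := Fintype.ofFinite _
    haveI : FaithfulSMul S K := ⟨fun {a b} h => Subtype.ext (RingEquiv.ext h)⟩
    rw [Module.natCard_eq_pow_finrank (K := FixedPoints.subfield S K), FixedPoints.finrank_eq_card,
      ← Nat.card_eq_fintype_card, Nat.card_zpowers]

/-- A self-centralising abelian normal subgroup gives the bound. -/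
theorem good_of_selfCentralizing (ρ : G →* (V ≃ₗ[ZMod p] V)) (hρ : Function.Injective ρ)
    (htrans : ∀ v w : V, v ≠ 0 → w ≠ 0 → ∃ g : G, ρ g v = w) (hco : ¬ p ∣ Nat.card G)
    (A : Subgroup G) [A.Normal] (hA : ∀ a ∈ A, ∀ b ∈ A, a * b = b * a)
    (hcent : ∀ g : G, (∀ a ∈ A, g * a = a * g) → g ∈ A) : Good ρ := by
  classical
  intro v hv
  have hp : p.Prime := Fact.out
  by_cases hreg : Nat.card (stab ρ v) = 1
  · exact good_of_regular ρ hρ htrans (by rw [card_eq ρ htrans hv, hreg, mul_one]) v hv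
  obtain ⟨K, _, _, _, χ, τ, d, hd, hK, hAut, hχ, hχV, hτ, hker⟩ :=
    RegLinear.exists_field_data ρ hρ htrans A hA
  haveI : Finite (K ≃+* K) := Nat.finite_of_card_ne_zero (by omega)
  haveI : Fintype G := Fintype.ofFinite G
  have hkerA : τ.ker = A := by
    ext g
    rw [MonoidHom.mem_ker, hker]
    exact ⟨hcent g, fun hg a ha => hA g hg a ha⟩
  set q := Nat.card V with hq
  set a := Nat.card A with ha
  set e := A.index with he
  set h := Nat.card (stab ρ v) with hh
  have hq2 : 2 ≤ q := card_space_ge_two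
  have hhpos : 0 < h := Nat.card_pos
  have hh2 : 2 ≤ h := by omega
  have hG : a * e = (q - 1) * h := by rw [ha, he, Subgroup.card_mul_index, card_eq ρ htrans hv]
  have hed : e ∣ d := by
    rw [he, ← hkerA, Subgroup.index_ker, ← hAut]; exact Subgroup.card_subgroup_dvd_card _
  have hHA : A ⊓ stab ρ v = ⊥ := by
    rw [eq_bot_iff]
    rintro g ⟨hgA, hgv⟩
    rw [Subgroup.mem_bot]
    have h1 : (χ ⟨g, hgA⟩ : K) • v = (1 : K) • v := by rw [hχV, one_smul]; exact hgv
    have h2 : χ ⟨g, hgA⟩ = 1 := Units.ext (smul_left_injective K hv h1)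
    exact congrArg Subtype.val (hχ (h2.trans (map_one χ).symm))
  have hhe : h ≤ e := by
    have h1 : A.relIndex (stab ρ v) = h := by
      rw [← Subgroup.inf_relIndex_right, hHA, Subgroup.relIndex_bot_left]
    rw [← h1, he, ← Subgroup.relIndex_top_right]
    exact Subgroup.relIndex_le_of_le_right le_top (by
      rw [Subgroup.relIndex_top_right]; exact Subgroup.index_ne_zero_of_finite)
  have haK : a ≤ Nat.card K - 1 := by
    rw [← Nat.card_units]; exact Nat.card_le_card_of_injective χ hχ
  -- the space is a line over the field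
  have hVK : q = Nat.card K := by
    obtain ⟨m, hm⟩ : ∃ m, q = Nat.card K ^ m := ⟨_, Module.natCard_eq_pow_finrank⟩
    rcases m with _ | _ | m
    · rw [pow_zero] at hm; omega
    · rwa [pow_one] at hm
    exfalso
    set c := Nat.card K with hc
    have hc2 : 2 ≤ c := Finite.one_lt_card
    have h1 : c * c ≤ q := by
      rw [hm]
      calc c * c = c ^ 2 := by ring
        _ ≤ _ := Nat.pow_le_pow_right (by omega) (by omega)
    have hdc : d < c := hK ▸ Nat.lt_pow_self hp.one_lt
    have h2 : a * e ≤ (c - 1) * d := Nat.mul_le_mul haK (Nat.le_of_dvd (by omega) hed)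
    have h3 : (q - 1) * 1 ≤ (q - 1) * h := Nat.mul_le_mul_left _ hhpos
    obtain ⟨y, hy⟩ : ∃ y, c = y + 1 := ⟨c - 1, by omega⟩
    rw [hy] at h1 h2 hdc
    rw [Nat.add_sub_cancel] at h2
    have h4 : y * d ≤ y * y := Nat.mul_le_mul_left _ (by omega)
    have h5 : (y + 1) * (y + 1) = y * y + 2 * y + 1 := by ring
    omega
  have hAtop : A ≠ ⊤ := by
    intro h0
    rw [h0, Subgroup.index_top] at he
    omega
  obtain ⟨x₀, hx₀A, hx₀max⟩ : ∃ x, x ∉ A ∧ ∀ y, y ∉ A →
      Nat.card ↥(A ⊓ Subgroup.centralizer ({y} : Set G)) ≤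
        Nat.card ↥(A ⊓ Subgroup.centralizer ({x} : Set G)) := by
    obtain ⟨x, hx⟩ : ∃ x, x ∉ A := by
      by_contra hc
      push Not at hc
      exact hAtop (Subgroup.eq_top_iff' A |>.2 hc)
    obtain ⟨z, hz, hmax⟩ := Finset.exists_max_image (Finset.univ.filter fun y => y ∉ A)
      (fun y => Nat.card ↥(A ⊓ Subgroup.centralizer ({y} : Set G))) ⟨x, by simp [hx]⟩
    exact ⟨z, (Finset.mem_filter.1 hz).2, fun y hy => hmax y (by simp [hy])⟩
  set t := Nat.card ↥(A ⊓ Subgroup.centralizer ({x₀} : Set G)) with ht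
  obtain ⟨F, hF, hFcard⟩ := fixed_card (τ x₀)
  set f := Nat.card F with hf
  set r := orderOf (τ x₀) with hr
  have htf : t ≤ f - 1 := by
    rw [ht, hf, ← Nat.card_units]
    have hmem : ∀ y : ↥(A ⊓ Subgroup.centralizer ({x₀} : Set G)),
        ((χ ⟨y, y.2.1⟩ : Kˣ) : K) ∈ F := by
      intro y
      refine hF _ (smul_left_injective K ((LinearEquiv.map_ne_zero_iff (ρ x₀)).2 hv) ?_)
      show τ x₀ (χ ⟨y, y.2.1⟩ : K) • ρ x₀ v = (χ ⟨y, y.2.1⟩ : K) • ρ x₀ v
      rw [← hτ, hχV, hχV, ← LinearEquiv.mul_apply, ← LinearEquiv.mul_apply, ← map_mul, ← map_mul,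
        Subgroup.mem_centralizer_singleton_iff.1 y.2.2]
    refine Nat.card_le_card_of_injective
      (fun y : ↥(A ⊓ Subgroup.centralizer ({x₀} : Set G)) =>
        Units.mk0 (⟨((χ ⟨y, y.2.1⟩ : Kˣ) : K), hmem y⟩ : F)
          fun h0 => (χ ⟨y, y.2.1⟩).ne_zero (congrArg Subtype.val h0)) fun y z hyz => ?_
    have h1 : χ ⟨y, y.2.1⟩ = χ ⟨z, z.2.1⟩ :=
      Units.ext (congrArg (fun u : Fˣ => ((u : F) : K)) hyz)
    exact Subtype.ext (congrArg (fun w : A => (w : G)) (hχ h1))
  have hr2 : 2 ≤ r := by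
    have h1 : 0 < r := orderOf_pos _
    have h2 : r ≠ 1 := fun h0 => hx₀A (hkerA ▸ MonoidHom.mem_ker.2 (orderOf_eq_one_iff.1 h0))
    omega
  have hrG : r ∣ Nat.card G := (orderOf_map_dvd τ x₀).trans (orderOf_dvd_natCard x₀)
  have hrp : p = 2 → 3 ≤ r := by
    intro h0
    have : r ≠ 2 := fun h2 => hco (by rw [h0, ← h2]; exact hrG)
    omega
  -- the class number
  have hsum : Nat.card (ConjClasses G) * (a * e) ≤ a * a + (a * e - a) * (t + e * t) := by
    have h0 : a * e = Nat.card G := A.card_mul_index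
    rw [h0, ← CoprimeTrans.sum_card_centralizer (H := G)]
    have hA' : (Finset.univ.filter fun g => g ∈ A).card = a := by
      rw [ha, Nat.card_eq_fintype_card]; exact (Fintype.card_subtype _).symm
    have hN' : (Finset.univ.filter fun g => g ∉ A).card = Nat.card G - a := by
      rw [← Finset.compl_filter, Finset.card_compl, hA', Nat.card_eq_fintype_card]
    rw [← Finset.sum_filter_add_sum_filter_not Finset.univ (fun g => g ∈ A)]
    have h1 : ∑ g ∈ Finset.univ.filter (fun g => g ∈ A),
        Nat.card (Subgroup.centralizer ({g} : Set G)) ≤ a * a + (Nat.card G - a) * t := by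
      have h2 : ∑ g ∈ Finset.univ.filter (fun g => g ∈ A),
          Nat.card (Subgroup.centralizer ({g} : Set G)) =
            ∑ x : G, Nat.card ↥(A ⊓ Subgroup.centralizer ({x} : Set G)) := by
        have e1 : ∀ g : G, Nat.card (Subgroup.centralizer ({g} : Set G)) =
            ∑ x : G, if x * g = g * x then 1 else 0 := by
          intro g
          rw [Nat.card_eq_fintype_card, Finset.sum_boole, Nat.cast_id]
          exact (Fintype.card_congr (Equiv.subtypeEquivRight fun x =>
            Subgroup.mem_centralizer_singleton_iff)).trans (Fintype.card_subtype _)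
        simp_rw [e1]
        rw [Finset.sum_comm]
        refine Finset.sum_congr rfl fun x _ => ?_
        rw [Finset.sum_boole, Nat.cast_id, Nat.card_eq_fintype_card, Finset.filter_filter]
        refine ((Fintype.card_congr (Equiv.subtypeEquivRight (q := fun g => g ∈ A ∧ x * g = g * x)
          fun g => ?_)).trans (Fintype.card_subtype _)).symm
        rw [Subgroup.mem_inf, Subgroup.mem_centralizer_singleton_iff]
        exact and_congr_right fun _ => eq_comm
      rw [h2, ← Finset.sum_filter_add_sum_filter_not Finset.univ (fun g => g ∈ A)]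
      refine Nat.add_le_add ?_ ?_
      · refine (Finset.sum_le_card_nsmul _ _ a fun x _ => ?_).trans (by rw [smul_eq_mul, hA'])
        exact Subgroup.card_le_of_le inf_le_left
      · refine (Finset.sum_le_card_nsmul _ _ t fun x hx => ?_).trans (by rw [smul_eq_mul, hN'])
        exact hx₀max x (Finset.mem_filter.1 hx).2
    have h3 : ∑ g ∈ Finset.univ.filter (fun g => g ∉ A),
        Nat.card (Subgroup.centralizer ({g} : Set G)) ≤ (Nat.card G - a) * (e * t) := by
      refine (Finset.sum_le_card_nsmul _ _ (e * t) fun x hx => ?_).trans (by rw [smul_eq_mul, hN'])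
      set C := Subgroup.centralizer ({x} : Set G)
      rw [← (A.subgroupOf C).card_mul_index, mul_comm e t]
      refine Nat.mul_le_mul ?_ ?_
      · rw [← Subgroup.inf_subgroupOf_right,
          Nat.card_congr (Subgroup.subgroupOfEquivOfLe inf_le_right).toEquiv]
        exact hx₀max x (Finset.mem_filter.1 hx).2
      · show A.relIndex C ≤ _
        rw [he, ← Subgroup.relIndex_top_right]
        exact Subgroup.relIndex_le_of_le_right le_top (by
          rw [Subgroup.relIndex_top_right]; exact Subgroup.index_ne_zero_of_finite)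
    calc _ ≤ a * a + (Nat.card G - a) * t + (Nat.card G - a) * (e * t) := Nat.add_le_add h1 h3
      _ = _ := by ring
  have hapos : 0 < a := Nat.card_pos
  have he2 : 2 ≤ e := by omega
  set k := Nat.card (ConjClasses G) with hk
  have hk' : k * e ≤ a + (e * e - 1) * t := by
    refine Nat.le_of_mul_le_mul_left ?_ hapos
    have e1 : (a * e - a) * (t + e * t) = a * ((e * e - 1) * t) := by
      obtain ⟨x, hx⟩ : ∃ x, e = x + 1 := ⟨e - 1, by omega⟩
      rw [hx, show a * (x + 1) - a = a * x by rw [mul_add, mul_one, Nat.add_sub_cancel],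
        show (x + 1) * (x + 1) - 1 = x * (x + 2) from Nat.sub_eq_of_eq_add (by ring)]
      ring
    rw [e1, ← mul_add] at hsum
    linarith [hsum, show a * (k * e) = k * (a * e) by ring]
  have hkh := classes_le_card (stab ρ v)
  have haq : a ≤ q - 1 := hVK ▸ haK
  have hke : k * e ≤ a + (e * e - 1) * (f - 1) :=
    hk'.trans (Nat.add_le_add_left (Nat.mul_le_mul_left _ htf) _)
  -- the parameters
  obtain ⟨j, hj, hjr⟩ : ∃ j, j ≤ d ∧ f = p ^ j := by
    have h1 : f ∣ p ^ d := by
      rw [← hK, hFcard]; exact dvd_pow_self f (by omega)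
    exact (Nat.dvd_prime_pow hp).1 h1
  have hf2 : 2 ≤ f := Finite.one_lt_card
  have hj1 : 1 ≤ j := by
    rcases j with _ | j
    · rw [pow_zero] at hjr; omega
    · omega
  have hdjr : d = j * r := by
    apply Nat.pow_right_injective hp.two_le
    show p ^ d = p ^ (j * r)
    rw [pow_mul, ← hjr, ← hFcard, hK]
  have hed' : e ≤ j * r := hdjr ▸ Nat.le_of_dvd (by omega) hed
  rcases semilinear_arith hp hj1 hr2 hed' hrp with hmain | ⟨rfl, rfl, h3⟩ | ⟨rfl, rfl, h3⟩
  · have hlt : k + h < q := sum_bound he2 (by omega) hke haq (by omega) hhe (by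
      rw [hVK, hK, hdjr, hjr]; exact hmain)
    exact ⟨by omega, fun h0 => by omega⟩
  · -- `|V| = 8`
    have hq8 : q = 8 := by rw [hVK, hK, hdjr, h3]; norm_num
    have he3 : e = 3 := by
      rw [hdjr, h3, one_mul] at hed
      rcases (Nat.dvd_prime Nat.prime_three).1 hed with h0 | h0 <;> omega
    have hh3 : h = 3 := by
      have h2 : ¬ 2 ∣ h := fun h0 => hco (h0.trans (Subgroup.card_subgroup_dvd_card _))
      omega
    rw [he3, show f = 2 by rw [hjr]; norm_num] at hke
    rw [hq8, he3, hh3] at hG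
    refine ⟨?_, fun _ => Or.inr (Or.inl ⟨hq8, ?_⟩)⟩
    · omega
    · rw [← A.card_mul_index, ← ha, ← he, he3, hG]
  · have hq9 : q = 9 := by rw [hVK, hK, hdjr, h3]; norm_num
    have he2' : e = 2 := by
      rw [hdjr, h3, one_mul] at hed
      rcases (Nat.dvd_prime Nat.prime_two).1 hed with h0 | h0 <;> omega
    rw [he2', show f = 3 by rw [hjr]; norm_num] at hke
    rw [hq9, he2'] at hG
    refine ⟨?_, fun _ => Or.inr (Or.inr ⟨hq9, ?_⟩)⟩
    · omega
    · rw [← A.card_mul_index, ← ha, ← he, he2', hG]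
      have : h = 2 := by omega
      rw [this]

end CfsgLib.FGS74.TransKGV
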