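import Cfsg.Agent.FGS74.TransKGV.Ppd
import Cfsg.Agent.S0144

/-!
# The bound for `|V| = 81`
-/

set_option autoImplicit false
set_option linter.style.haveILetI false
set_option linter.unusedSectionVars false
set_option linter.unusedTactic false

namespace CfsgLib.FGS74.TransKGV

open scoped commutatorElement

universe u

variable {V : Type u} [AddCommGroup V] [Module (ZMod 3) V] [Finite V] [Nontrivial V]
  {G : Type*} [Group G] [Finite G]

/-- The class number of a group is at most the index times that of a subgroup. -/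
theorem classes_le_index_mul (M : Subgroup G) :
    Nat.card (ConjClasses G) ≤ M.index * Nat.card (ConjClasses M) := by
  classical
  haveI := Fintype.ofFinite G
  set C : G → Subgroup G := fun g => Subgroup.centralizer ({g} : Set G)
  have hmem : ∀ g x, x ∈ C g ↔ x * g = g * x := fun g x => Subgroup.mem_centralizer_singleton_iff
  have hle : ∀ g, Nat.card (C g) ≤ M.index * Nat.card ↥(M ⊓ C g) := by
    intro g
    rw [← (M.subgroupOf (C g)).card_mul_index, ← Subgroup.inf_subgroupOf_right,
      Nat.card_congr (Subgroup.subgroupOfEquivOfLe inf_le_right).toEquiv,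
      Subgroup.inf_subgroupOf_right, mul_comm M.index]
    refine Nat.mul_le_mul_left _ ?_
    show M.relIndex (C g) ≤ _
    rw [← Subgroup.relIndex_top_right]
    exact Subgroup.relIndex_le_of_le_right le_top (by
      rw [Subgroup.relIndex_top_right]; exact Subgroup.index_ne_zero_of_finite)
  have hswap : ∑ g : G, Nat.card ↥(M ⊓ C g) = ∑ u : M, Nat.card (C (u : G)) := by
    have e1 : ∀ g : G, Nat.card ↥(M ⊓ C g) = ∑ u : M, if (u : G) * g = g * u then 1 else 0 := by
      intro g
      rw [Finset.sum_boole, Nat.cast_id, ← Fintype.card_subtype, ← Nat.card_eq_fintype_card]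
      exact Nat.card_congr
        { toFun := fun x => ⟨⟨x, x.2.1⟩, (hmem g x).1 x.2.2⟩
          invFun := fun x => ⟨x.1, x.1.2, (hmem g x.1).2 x.2⟩
          left_inv := fun x => rfl
          right_inv := fun x => rfl }
    simp_rw [e1]
    rw [Finset.sum_comm]
    refine Finset.sum_congr rfl fun u _ => ?_
    rw [Finset.sum_boole, Nat.cast_id, Nat.card_eq_fintype_card, ← Fintype.card_subtype]
    exact Fintype.card_congr (Equiv.subtypeEquivRight fun g => by rw [hmem]; exact eq_comm)
  have hsub : ∀ u : M, Nat.card (C (u : G)) ≤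
      M.index * Nat.card (Subgroup.centralizer ({u} : Set M)) := by
    intro u
    refine (hle u).trans (Nat.mul_le_mul_left _ (le_of_eq (Nat.card_congr
      { toFun := fun x => ⟨⟨x, x.2.1⟩, Subgroup.mem_centralizer_singleton_iff.2
          (Subtype.ext ((hmem _ _).1 x.2.2))⟩
        invFun := fun x => ⟨(x.1 : G), x.1.2, (hmem _ _).2
          (congrArg Subtype.val (Subgroup.mem_centralizer_singleton_iff.1 x.2))⟩
        left_inv := fun x => rfl
        right_inv := fun x => rfl })))
  refine Nat.le_of_mul_le_mul_right ?_ (Nat.card_pos : 0 < Nat.card G)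
  calc Nat.card (ConjClasses G) * Nat.card G = ∑ g : G, Nat.card (C g) :=
        (CoprimeTrans.sum_card_centralizer (H := G)).symm
    _ ≤ ∑ g : G, M.index * Nat.card ↥(M ⊓ C g) := Finset.sum_le_sum fun g _ => hle g
    _ = M.index * ∑ u : M, Nat.card (C (u : G)) := by rw [← Finset.mul_sum, hswap]
    _ ≤ M.index * ∑ u : M, M.index * Nat.card (Subgroup.centralizer ({u} : Set M)) :=
        Nat.mul_le_mul_left _ (Finset.sum_le_sum fun u _ => hsub u)
    _ = M.index * Nat.card (ConjClasses M) * Nat.card G := by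
        rw [← Finset.mul_sum, CoprimeTrans.sum_card_centralizer (H := M), ← M.card_mul_index]
        ring

/-- A nontrivial solvable group has a nontrivial abelian normal subgroup. -/
theorem exists_abelian_normal {H : Type*} [Group H] [Nontrivial H] (hs : Group.IsSolvable H) :
    ∃ D : Subgroup H, D.Normal ∧ D ≠ ⊥ ∧ ∀ a ∈ D, ∀ b ∈ D, a * b = b * a := by
  classical
  have hex : ∃ k, derivedSeries H k = ⊥ := (Group.isSolvable_def H).1 hs
  obtain ⟨k, hk⟩ : ∃ k, Nat.find hex = k + 1 := by
    refine ⟨Nat.find hex - 1, ?_⟩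
    have : Nat.find hex ≠ 0 := fun h => by
      have := Nat.find_spec hex
      rw [h, derivedSeries_zero] at this
      exact top_ne_bot this
    omega
  refine ⟨derivedSeries H k, derivedSeries_normal H k, Nat.find_min hex (by omega), fun a ha b hb => ?_⟩
  have h := Nat.find_spec hex
  rw [hk, derivedSeries_succ] at h
  have := Subgroup.commutator_mem_commutator ha hb
  rw [h, Subgroup.mem_bot] at this
  exact commutatorElement_eq_one_iff_mul_comm.1 this

theorem orderOf_three_mod_five : orderOf ((3 : ℕ) : ZMod 5) = 4 := by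
  rw [orderOf_eq_iff (by norm_num)]
  refine ⟨by decide, fun m hm hm0 => ?_⟩
  interval_cases m <;> decide

/-- A transitive coprime group on `81` vectors whose abelian normal subgroups are small. -/
theorem good_of_eightyOne_aux (ρ : G →* (V ≃ₗ[ZMod 3] V)) (hρ : Function.Injective ρ)
    (htrans : ∀ v w : V, v ≠ 0 → w ≠ 0 → ∃ g : G, ρ g v = w)
    (h4 : Module.finrank (ZMod 3) V = 4) {a : ℕ} (hG : Nat.card G = 2 ^ a * 5)
    (hsmall : ∀ A : Subgroup G, A.Normal → (∀ x ∈ A, ∀ y ∈ A, x * y = y * x) → Nat.card A ≤ 2) :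
    Good ρ := by
  classical
  haveI : Fact (Nat.Prime 5) := ⟨by norm_num⟩
  haveI : Fact (Nat.Prime 2) := ⟨by norm_num⟩
  have hsolv : Group.IsSolvable G :=
    Cfsg.Agent.S0144.result 2 5 a 1 Nat.prime_two (by norm_num) (by rw [hG, pow_one])
  have hord : orderOf ((3 : ℕ) : ZMod 5) = Module.finrank (ZMod 3) V := by
    rw [h4, orderOf_three_mod_five]
  obtain ⟨Q, ⟨hQn, hQ2⟩, hQmax⟩ := Set.Finite.exists_maximalFor (fun A : Subgroup G => Nat.card A)
    {A : Subgroup G | A.Normal ∧ IsPGroup 2 A} (Set.toFinite _)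
    ⟨⊥, inferInstance, IsPGroup.of_bot⟩
  haveI := hQn
  have hmax : ∀ D : Subgroup G, D.Normal → IsPGroup 2 D → Q ≤ D → D = Q := fun D h1 h2 h3 =>
    (Subgroup.eq_of_le_of_card_ge h3 (hQmax ⟨h1, h2⟩ (Subgroup.card_le_of_le h3))).symm
  -- a normal subgroup `M` with `|M : Q| = 5`
  have hQtop : Q ≠ ⊤ := by
    intro h
    obtain ⟨b, hb⟩ := IsPGroup.iff_card.1 hQ2
    rw [h, Subgroup.card_top, hG] at hb
    have : 5 ∣ 2 ^ b := hb ▸ dvd_mul_left 5 _
    have := (show Nat.Prime 5 by norm_num).dvd_of_dvd_pow this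
    norm_num at this
  haveI : Nontrivial (G ⧸ Q) := QuotientGroup.nontrivial_iff.2 hQtop
  obtain ⟨D, hDn, hD1, hDc⟩ := exists_abelian_normal (H := G ⧸ Q)
    (haveI := hsolv; inferInstance)
  haveI := hDn
  have hno2 : ∀ T : Subgroup (G ⧸ Q), T.Normal → IsPGroup 2 T → T = ⊥ := by
    intro T hTn hT
    haveI := hTn
    have hpre := hmax (T.comap (QuotientGroup.mk' Q)) inferInstance
      (hT.comap_of_ker_isPGroup _ (by rw [QuotientGroup.ker_mk']; exact hQ2))
      (fun x hx => by
        rw [Subgroup.mem_comap, show QuotientGroup.mk' Q x = 1 from (QuotientGroup.eq_one_iff x).2 hx]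
        exact one_mem _)
    rw [← Subgroup.map_comap_eq_self_of_surjective (QuotientGroup.mk'_surjective Q) T, hpre,
      QuotientGroup.map_mk'_self]
  have hD5 : Nat.card D = 5 := by
    have hdvd : Nat.card D ∣ 2 ^ a * 5 := hG ▸ (Subgroup.card_subgroup_dvd_card D).trans
      (Subgroup.card_quotient_dvd_card Q)
    have hodd : ¬ 2 ∣ Nat.card D := by
      intro h
      haveI : IsMulCommutative D := ⟨⟨fun x y => Subtype.ext (hDc x x.2 y y.2)⟩⟩
      obtain ⟨T⟩ : Nonempty (Sylow 2 D) := inferInstance
      have hTn : (T : Subgroup D).Normal := Subgroup.normal_of_isMulCommutative _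
      haveI := T.characteristic_of_normal hTn
      haveI : ((T : Subgroup D).map D.subtype).Normal := inferInstance
      have hbot := hno2 ((T : Subgroup D).map D.subtype) inferInstance (T.isPGroup'.map D.subtype)
      have h2 := T.dvd_card_of_dvd_card h
      rw [← Subgroup.card_map_of_injective D.subtype_injective, hbot, Subgroup.card_bot] at h2
      norm_num at h2
    have h5 : Nat.card D ∣ 5 :=
      (Nat.Coprime.pow_right a ((Nat.prime_two.coprime_iff_not_dvd.2 hodd).symm)).dvd_of_dvd_mul_left
        hdvd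
    rcases (Nat.dvd_prime (show Nat.Prime 5 by norm_num)).1 h5 with h | h
    · exact absurd (Subgroup.eq_bot_of_card_eq D h) hD1
    · exact h
  set M : Subgroup G := D.comap (QuotientGroup.mk' Q) with hM
  haveI hMn : M.Normal := inferInstance
  have hQM : Q ≤ M := fun x hx => by
    rw [hM, Subgroup.mem_comap, show QuotientGroup.mk' Q x = 1 from (QuotientGroup.eq_one_iff x).2 hx]
    exact one_mem _
  have hMidx : Q.relIndex M = 5 := by
    have hQc : Q = (⊥ : Subgroup (G ⧸ Q)).comap (QuotientGroup.mk' Q) := by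
      rw [MonoidHom.comap_bot, QuotientGroup.ker_mk']
    conv_lhs => rw [hQc]
    rw [Subgroup.relIndex_comap, hM,
      Subgroup.map_comap_eq_self_of_surjective (QuotientGroup.mk'_surjective Q),
      Subgroup.relIndex_bot_left, hD5]
  -- the centre of `Q`
  set Z : Subgroup G := (Subgroup.center Q).map Q.subtype with hZ
  haveI hZn : Z.Normal := inferInstance
  have hZQ : Z ≤ Q := Subgroup.map_subtype_le _
  have hZmem : ∀ z, z ∈ Z ↔ z ∈ Q ∧ ∀ y ∈ Q, y * z = z * y := by
    intro z
    constructor
    · rintro ⟨w, hw, rfl⟩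
      exact ⟨w.2, fun y hy => congrArg Subtype.val (Subgroup.mem_center_iff.1 hw ⟨y, hy⟩)⟩
    · rintro ⟨hz, hc⟩
      exact ⟨⟨z, hz⟩, Subgroup.mem_center_iff.2 fun y => Subtype.ext (hc y y.2), rfl⟩
  have hZ2 : Nat.card Z ≤ 2 := hsmall Z hZn fun x hx y hy =>
    ((hZmem y).1 hy).2 x ((hZmem x).1 hx).1
  have hZone : ∀ z ∈ Z, ∀ w ∈ Z, z ≠ 1 → w ≠ 1 → z = w := by
    intro z hz w hw hz1 hw1
    by_contra hne
    have h3 : 3 ≤ Nat.card Z := by
      haveI := Fintype.ofFinite Z
      rw [Nat.card_eq_fintype_card]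
      refine le_trans ?_ (Finset.card_le_univ ({1, ⟨z, hz⟩, ⟨w, hw⟩} : Finset Z))
      rw [Finset.card_insert_of_notMem, Finset.card_insert_of_notMem, Finset.card_singleton]
      · simp only [Finset.mem_singleton, Subtype.mk.injEq]; exact hne
      · simp only [Finset.mem_insert, Finset.mem_singleton, not_or, Subtype.ext_iff,
          OneMemClass.coe_one]
        exact ⟨Ne.symm hz1, Ne.symm hw1⟩
    omega
  have hZsq : ∀ z ∈ Z, z * z = 1 := by
    intro z hz
    by_cases h : z = 1
    · rw [h, one_mul]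
    · by_contra h2
      have := hZone z hz (z * z) (mul_mem hz hz) h h2
      exact h (mul_left_cancel (a := z) (by rw [mul_one]; exact this.symm))
  have hZcent : ∀ (g : G), ∀ z ∈ Z, g * z * g⁻¹ = z := by
    intro g z hz
    by_cases h : z = 1
    · rw [h, mul_one, mul_inv_cancel]
    · exact hZone _ (hZn.conj_mem z hz g) z hz
        (fun h0 => h (conj_eq_one_iff.1 h0)) h
  -- `Q` has class at most two
  have hder : ∀ x ∈ Q, ∀ y ∈ Q, ⁅x, y⁆ ∈ Z := by
    by_contra hne
    push Not at hne
    obtain ⟨x, hx, y, hy, hxy⟩ := hne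
    haveI : Group.IsNilpotent Q := hQ2.isNilpotent
    set U : Subgroup Q := commutator Q ⊓ Subgroup.upperCentralSeries Q 2 with hU
    haveI : U.Characteristic := inferInstance
    have hUcomm : ∀ u ∈ U, ∀ w ∈ commutator Q, w * u = u * w := by
      have h2 : ⁅⁅(⊤ : Subgroup Q), Subgroup.upperCentralSeries Q 2⁆, (⊤ : Subgroup Q)⁆ = ⊥ := by
        rw [eq_bot_iff]
        refine (Subgroup.commutator_mono (?_ : _ ≤ Subgroup.center Q) le_rfl).trans (le_of_eq ?_)
        · rw [Subgroup.commutator_comm, Subgroup.commutator_le]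
          intro u hu w _
          have := Subgroup.mem_upperCentralSeries_succ_iff.1 hu w
          rwa [Subgroup.upperCentralSeries_one] at this
        · rw [Subgroup.commutator_eq_bot_iff_le_centralizer]
          exact fun z hz => Subgroup.mem_centralizer_iff.2 fun w _ =>
            (Subgroup.mem_center_iff.1 hz w)
      have h3 : ⁅⁅Subgroup.upperCentralSeries Q 2, (⊤ : Subgroup Q)⁆, (⊤ : Subgroup Q)⁆ = ⊥ := by
        rw [Subgroup.commutator_comm (Subgroup.upperCentralSeries Q 2)]; exact h2
      have h1 := Subgroup.commutator_commutator_eq_bot_of_rotate h2 h3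
      intro u hu w hw
      have h4 := Subgroup.commutator_eq_bot_iff_le_centralizer.1 h1 (commutator_def Q ▸ hw)
      exact (Subgroup.mem_centralizer_iff.1 h4 u hu.2).symm
    haveI : (U.map Q.subtype).Normal := inferInstance
    have hUab : ∀ u ∈ U.map Q.subtype, ∀ w ∈ U.map Q.subtype, u * w = w * u := by
      rintro _ ⟨u, hu, rfl⟩ _ ⟨w, hw, rfl⟩
      rw [← map_mul, ← map_mul, hUcomm w hw u hu.1]
    have hU2 := hsmall _ inferInstance hUab
    rw [Subgroup.card_map_of_injective Q.subtype_injective] at hU2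
    have hnc : ¬ commutator Q ≤ Subgroup.center Q := fun h => by
      refine hxy ?_
      have hm : ⁅(⟨x, hx⟩ : Q), ⟨y, hy⟩⁆ ∈ commutator Q := by
        rw [commutator_def]
        exact Subgroup.commutator_mem_commutator (Subgroup.mem_top _) (Subgroup.mem_top _)
      rw [hZ]
      exact ⟨_, h hm, rfl⟩
    haveI : Group.IsNilpotent (Q ⧸ Subgroup.center Q) := inferInstance
    set Dq : Subgroup (Q ⧸ Subgroup.center Q) :=
      (commutator Q).map (QuotientGroup.mk' (Subgroup.center Q))
    haveI : Dq.Normal := Subgroup.Normal.map inferInstance _ (QuotientGroup.mk'_surjective _)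
    have hDq : Dq ≠ ⊥ := by
      rw [Ne, Subgroup.map_eq_bot_iff, QuotientGroup.ker_mk']; exact hnc
    haveI : Nontrivial Dq := (Subgroup.nontrivial_iff_ne_bot _).2 hDq
    obtain ⟨w, ⟨u, hu, huw⟩, hwc, hw1⟩ :
        ∃ w, w ∈ Dq ∧ w ∈ Subgroup.center (Q ⧸ Subgroup.center Q) ∧ w ≠ 1 := by
      have hp2 : IsPGroup 2 (Q ⧸ Subgroup.center Q) := hQ2.to_quotient _
      letI : MulAction (ConjAct (Q ⧸ Subgroup.center Q)) Dq := inferInstance
      have hpc : IsPGroup 2 (ConjAct (Q ⧸ Subgroup.center Q)) := hp2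
      have hdvd : 2 ∣ Nat.card Dq := by
        obtain ⟨b, hb⟩ := IsPGroup.iff_card.1 (hp2.to_subgroup Dq)
        rw [hb]
        refine dvd_pow_self 2 ?_
        rintro rfl
        rw [pow_zero] at hb
        exact absurd (Finite.one_lt_card (α := Dq)) (by omega)
      obtain ⟨w, hw, hw1⟩ := hpc.exists_fixed_point_of_prime_dvd_card_of_fixed_point Dq hdvd
        (a := 1) (fun g => Subtype.ext (by simp))
      refine ⟨w, w.2, Subgroup.mem_center_iff.2 fun g => ?_, fun h => hw1 (Subtype.ext h.symm)⟩
      have := congrArg (fun d : Dq => (d : Q ⧸ Subgroup.center Q)) (hw (ConjAct.toConjAct g))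
      simp only [ConjAct.Subgroup.val_conj_smul, ConjAct.toConjAct_smul] at this
      exact mul_inv_eq_iff_eq_mul.1 this
    have huU : u ∈ U := ⟨hu, Subgroup.mem_upperCentralSeries_succ_iff.2 fun g => by
      rw [Subgroup.upperCentralSeries_one, ← QuotientGroup.eq_one_iff, ← QuotientGroup.mk'_apply,
        map_commutatorElement, huw, commutatorElement_eq_one_iff_mul_comm]
      exact (Subgroup.mem_center_iff.1 hwc _).symm⟩
    have hucen : u ∉ Subgroup.center Q := fun h => hw1 (by
      rw [← huw]; exact (QuotientGroup.eq_one_iff u).2 h)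
    -- a second nontrivial element of `U`
    obtain ⟨z, hz, hzc, hz1⟩ : ∃ z, z ∈ commutator Q ∧ z ∈ Subgroup.center Q ∧ z ≠ 1 := by
      haveI : Nontrivial (commutator Q) := (Subgroup.nontrivial_iff_ne_bot _).2
        fun h => hnc (h ▸ bot_le)
      have hdvd : 2 ∣ Nat.card (commutator Q) := by
        obtain ⟨b, hb⟩ := IsPGroup.iff_card.1 (hQ2.to_subgroup (commutator Q))
        rw [hb]
        refine dvd_pow_self 2 ?_
        rintro rfl
        rw [pow_zero] at hb
        exact absurd (Finite.one_lt_card (α := commutator Q)) (by omega)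
      have hpc : IsPGroup 2 (ConjAct Q) := hQ2
      obtain ⟨w, hw, hw1⟩ := hpc.exists_fixed_point_of_prime_dvd_card_of_fixed_point (commutator Q)
        hdvd (a := 1) (fun g => Subtype.ext (by simp))
      refine ⟨w, w.2, Subgroup.mem_center_iff.2 fun g => ?_, fun h => hw1 (Subtype.ext h.symm)⟩
      have := congrArg (fun d : commutator Q => (d : Q)) (hw (ConjAct.toConjAct g))
      simp only [ConjAct.Subgroup.val_conj_smul, ConjAct.toConjAct_smul] at this
      exact mul_inv_eq_iff_eq_mul.1 this
    have hzU : z ∈ U := ⟨hz, Subgroup.mem_upperCentralSeries_succ_iff.2 fun g => by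
      rw [Subgroup.upperCentralSeries_one,
        commutatorElement_eq_one_iff_mul_comm.2 (Subgroup.mem_center_iff.1 hzc g).symm]
      exact one_mem _⟩
    have h3 : 3 ≤ Nat.card U := by
      haveI := Fintype.ofFinite U
      rw [Nat.card_eq_fintype_card]
      refine le_trans ?_ (Finset.card_le_univ ({1, ⟨z, hzU⟩, ⟨u, huU⟩} : Finset U))
      rw [Finset.card_insert_of_notMem, Finset.card_insert_of_notMem, Finset.card_singleton]
      · simp only [Finset.mem_singleton, Subtype.mk.injEq]
        rintro rfl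
        exact hucen hzc
      · simp only [Finset.mem_insert, Finset.mem_singleton, not_or, Subtype.ext_iff,
          OneMemClass.coe_one]
        exact ⟨fun h => hz1 (Subtype.ext h.symm), fun h => hucen (by
          have : u = 1 := Subtype.ext h.symm
          rw [this]; exact one_mem _)⟩
    omega
  have hsq : ∀ x ∈ Q, x * x ∈ Z := by
    intro x hx
    rw [hZmem]
    refine ⟨mul_mem hx hx, fun y hy => ?_⟩
    have hc := hder x hx y hy
    set c := ⁅x, y⁆ with hcdef
    have h1 : c * y = x * y * x⁻¹ := by rw [hcdef, commutatorElement_def, inv_mul_cancel_right]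
    have hxc : x * c * x⁻¹ = c := hZcent x c hc
    calc y * (x * x) = c * c * y * (x * x) := by rw [hZsq c hc, one_mul]
      _ = x * c * x⁻¹ * (x * y * x⁻¹) * (x * x) := by rw [hxc, mul_assoc c c y, h1]
      _ = x * (c * y) * x := by group
      _ = x * x * y := by rw [h1]; group
  -- elements of order five centralise only the centre
  have hQZ5 : ∀ r : G, orderOf r = 5 → ∀ q ∈ Q, r * q = q * r → q ∈ Z := by
    intro r hr q hq hrq
    rw [hZmem]
    refine ⟨hq, fun y₀ hy₀ => ?_⟩
    set T : Subgroup G := Q ⊓ Subgroup.centralizer ({q} : Set G) with hT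
    have hcen : ∀ y : G, y ∈ Q → y⁻¹ * (r * y * r⁻¹) ∈ T := by
      intro y hy
      refine Subgroup.mem_inf.2 ⟨mul_mem (inv_mem hy) (hQn.conj_mem _ hy r),
        Subgroup.mem_centralizer_singleton_iff.2 ?_⟩
      have h1 : ⁅q, r * y * r⁻¹⁆ = ⁅q, y⁆ := by
        calc ⁅q, r * y * r⁻¹⁆ = ⁅r * q * r⁻¹, r * y * r⁻¹⁆ := by rw [hrq, mul_inv_cancel_right]
          _ = r * ⁅q, y⁆ * r⁻¹ := by simp only [commutatorElement_def]; group
          _ = ⁅q, y⁆ := hZcent r _ (hder q hq y hy)
      set y' := r * y * r⁻¹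
      have e1 : q * y * q⁻¹ = ⁅q, y⁆ * y := by rw [commutatorElement_def, inv_mul_cancel_right]
      have e2 : q * y' * q⁻¹ = ⁅q, y⁆ * y' := by rw [← h1, commutatorElement_def, inv_mul_cancel_right]
      refine (mul_inv_eq_iff_eq_mul.1 ?_).symm
      calc q * (y⁻¹ * y') * q⁻¹ = (q * y * q⁻¹)⁻¹ * (q * y' * q⁻¹) := by group
        _ = y⁻¹ * y' := by rw [e1, e2]; group
    have hrT : ∀ t ∈ T, r * t * r⁻¹ ∈ T := fun t ht => by
      have := mul_mem ht (hcen t ht.1)
      rwa [mul_inv_cancel_left] at this
    let f : T → T := fun t => ⟨(y₀⁻¹ * (r * y₀ * r⁻¹)) * (r * t * r⁻¹),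
      mul_mem (hcen y₀ hy₀) (hrT t t.2)⟩
    have hk : ∀ (k : ℕ) (t : T), y₀ * ((f^[k] t : T) : G) = r ^ k * (y₀ * t) * (r ^ k)⁻¹ := by
      intro k
      induction k with
      | zero => intro t; simp
      | succ k ih =>
        intro t
        rw [Function.iterate_succ', Function.comp_apply]
        show y₀ * ((y₀⁻¹ * (r * y₀ * r⁻¹)) * (r * ((f^[k] t : T) : G) * r⁻¹)) = _
        calc y₀ * ((y₀⁻¹ * (r * y₀ * r⁻¹)) * (r * ((f^[k] t : T) : G) * r⁻¹))
            = r * (y₀ * ((f^[k] t : T) : G)) * r⁻¹ := by group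
          _ = r ^ (k + 1) * (y₀ * t) * (r ^ (k + 1))⁻¹ := by
              rw [ih, pow_succ', mul_inv_rev]; simp only [mul_assoc]
    have hf5 : f^[5] = id := funext fun t => Subtype.ext (mul_left_cancel (a := y₀) (by
      rw [hk, ← hr, pow_orderOf_eq_one, one_mul, inv_one, mul_one, id_eq]))
    have hmod := CfsgLib.FgsSix.SolvableLinear.card_modEq_fixed f (show Nat.Prime 5 by norm_num) hf5
    obtain ⟨b, hb⟩ := IsPGroup.iff_card.1 (hQ2.to_le (inf_le_left : T ≤ Q))
    have hne : Nat.card {t : T // f t = t} ≠ 0 := fun h0 => by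
      rw [h0, hb, Nat.modEq_zero_iff_dvd] at hmod
      have := (show Nat.Prime 5 by norm_num).dvd_of_dvd_pow hmod
      norm_num at this
    obtain ⟨⟨t, ht⟩⟩ := (Nat.card_ne_zero.1 hne).1
    have h1 : y₀ * (t : G) = r * (y₀ * t) * r⁻¹ := by
      have := hk 1 t
      rwa [Function.iterate_one, ht, pow_one] at this
    have h2 : Commute (y₀ * (t : G)) r := by
      have h := congrArg (· * r) h1
      simp only [inv_mul_cancel_right] at h
      exact h
    have h3 : Commute q (y₀ * (t : G)) :=
      commute_of_commute_ppd ρ hρ (show Nat.Prime 5 by norm_num) hord hr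
        (show Commute q r from hrq.symm) h2
    have h4 : Commute q (t : G) := (Subgroup.mem_centralizer_singleton_iff.1 t.2.2).symm
    have h5 := h3.mul_right h4.inv_right
    rw [mul_inv_cancel_right] at h5
    exact h5.eq.symm
  -- `|Q| ≤ 32`
  have hQ32 : Nat.card Q ≤ 32 := by
    haveI : Module.Finite (ZMod 3) V := Module.Finite.of_finite
    have hneg : ∀ z ∈ Z, z ≠ 1 → ∀ w, ρ z w = -w := by
      intro z hz hz1
      have hcomm : ∀ (g : G) (w : V), ρ z (ρ g w) = ρ g (ρ z w) := fun g w => by
        rw [← LinearEquiv.mul_apply, ← LinearEquiv.mul_apply, ← map_mul, ← map_mul,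
          (mul_inv_eq_iff_eq_mul.1 (hZcent g z hz)).symm]
      intro w
      have hfix : ρ z (w + ρ z w) = w + ρ z w := by
        rw [map_add, ← LinearEquiv.mul_apply, ← map_mul, hZsq z hz, map_one]
        exact add_comm _ _
      by_contra hne
      have h0 : w + ρ z w ≠ 0 := fun h => hne (eq_neg_of_add_eq_zero_right h)
      refine hz1 (hρ (LinearEquiv.ext fun u => ?_))
      rw [map_one]
      by_cases hu : u = 0
      · rw [hu, map_zero, map_zero]
      · obtain ⟨g, rfl⟩ := htrans _ u h0 hu
        rw [hcomm, hfix]; rfl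
    have htr : ∀ g ∈ Q, g ∉ Z → LinearMap.trace (ZMod 3) V (ρ g).toLinearMap = 0 := by
      intro g hg hgZ
      obtain ⟨u, hu, hug⟩ : ∃ u ∈ Q, u * g ≠ g * u := by
        by_contra h
        push Not at h
        exact hgZ ((hZmem g).2 ⟨hg, h⟩)
      set z := ⁅u, g⁆ with hz
      have hzZ : z ∈ Z := hder u hu g hg
      have hz1 : z ≠ 1 := fun h => hug (commutatorElement_eq_one_iff_mul_comm.1 h)
      have h1 : u * g * u⁻¹ = z * g := by rw [hz, commutatorElement_def, inv_mul_cancel_right]
      have h2 : LinearMap.trace (ZMod 3) V (ρ (u * g * u⁻¹)).toLinearMap =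
          LinearMap.trace (ZMod 3) V (ρ g).toLinearMap := by
        have e : (ρ (u * g * u⁻¹)).toLinearMap = (ρ u).conj (ρ g).toLinearMap := LinearMap.ext fun w => by
          rw [LinearEquiv.conj_apply_apply, map_mul, map_mul]
          simp only [LinearEquiv.coe_coe, LinearEquiv.mul_apply]
          congr 2
          exact (ρ u).eq_symm_apply.2 (conj_apply ρ u w)
        rw [e, LinearMap.trace_conj']
      have e : (ρ (z * g)).toLinearMap = -(ρ g).toLinearMap := LinearMap.ext fun w => by
        rw [map_mul]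
        simp only [LinearEquiv.coe_coe, LinearEquiv.mul_apply, LinearMap.neg_apply]
        exact hneg z hzZ hz1 _
      rw [h1, e, map_neg] at h2
      have key : ∀ x : ZMod 3, -x = x → x = 0 := by decide
      exact key _ h2
    let rep : Q ⧸ Z.subgroupOf Q → Q := Quotient.out
    haveI : Fintype (Q ⧸ Z.subgroupOf Q) := Fintype.ofFinite _
    have hli : LinearIndependent (ZMod 3) fun c => (ρ (rep c : G)).toLinearMap := by
      rw [Fintype.linearIndependent_iff]
      intro x hx c₀
      have h := congrArg (fun L => LinearMap.trace (ZMod 3) V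
        ((ρ (rep c₀ : G)⁻¹).toLinearMap * L)) hx
      simp only [Finset.mul_sum, mul_zero, map_zero, map_sum, mul_smul_comm, map_smul] at h
      rw [Finset.sum_eq_single c₀ (fun c _ hc => ?_) (fun hc => absurd (Finset.mem_univ _) hc)] at h
      · have e : (ρ (rep c₀ : G)⁻¹).toLinearMap * (ρ (rep c₀ : G)).toLinearMap = 1 :=
          LinearMap.ext fun w => by
            show ρ (rep c₀ : G)⁻¹ (ρ (rep c₀ : G) w) = w
            rw [← LinearEquiv.mul_apply, ← map_mul, inv_mul_cancel, map_one]; rfl
        rw [e, LinearMap.trace_one, h4, smul_eq_mul] at h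
        rw [show ((4 : ℕ) : ZMod 3) = 1 from rfl, mul_one] at h
        exact h
      · have e : (ρ (rep c₀ : G)⁻¹).toLinearMap * (ρ (rep c : G)).toLinearMap =
            (ρ (((rep c₀)⁻¹ * rep c : Q) : G)).toLinearMap := LinearMap.ext fun w => by
          show ρ (rep c₀ : G)⁻¹ (ρ (rep c : G) w) = ρ _ w
          rw [Subgroup.coe_mul, Subgroup.coe_inv, map_mul, LinearEquiv.mul_apply]
        rw [e, htr _ (SetLike.coe_mem _) fun hin => hc ?_, smul_zero]
        have h1 : (QuotientGroup.mk (rep c₀) : Q ⧸ Z.subgroupOf Q) = QuotientGroup.mk (rep c) :=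
          QuotientGroup.eq.2 hin
        rw [QuotientGroup.out_eq', QuotientGroup.out_eq'] at h1
        exact h1.symm
    have h1 := hli.fintype_card_le_finrank
    rw [Module.finrank_linearMap, h4, ← Nat.card_eq_fintype_card] at h1
    calc Nat.card Q = Nat.card (Q ⧸ Z.subgroupOf Q) * Nat.card (Z.subgroupOf Q) :=
          Subgroup.card_eq_card_quotient_mul_card_subgroup _
      _ ≤ 16 * 2 := Nat.mul_le_mul h1 (le_of_eq_of_le
          (Nat.card_congr (Subgroup.subgroupOfEquivOfLe hZQ).toEquiv) hZ2)
      _ = 32 := rfl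
  -- the class number of `M`
  have hcardM : Nat.card M = 5 * Nat.card Q := by
    rw [← (Q.subgroupOf M).index_mul_card, Nat.card_congr (Subgroup.subgroupOfEquivOfLe hQM).toEquiv]
    exact congrArg (· * _) hMidx
  have hpow5 : ∀ g : G, g ∈ M → g ∉ Q → orderOf (g ^ 2 ^ a) = 5 := by
    intro g hgM hgQ
    refine orderOf_eq_prime ?_ fun h1 => hgQ ?_
    · rw [← pow_mul, ← hG, pow_card_eq_one']
    · set dd : D := ⟨QuotientGroup.mk' Q g, hgM⟩
      have hd1 : dd ^ 2 ^ a = 1 := Subtype.ext (by
        show QuotientGroup.mk' Q g ^ 2 ^ a = 1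
        rw [← map_pow, h1, map_one])
      have h2 : orderOf dd ∣ Nat.gcd (2 ^ a) 5 :=
        Nat.dvd_gcd (orderOf_dvd_of_pow_eq_one hd1) (hD5 ▸ orderOf_dvd_natCard dd)
      rw [(Nat.Coprime.pow_left a (by norm_num : Nat.Coprime 2 5)).gcd_eq_one, Nat.dvd_one,
        orderOf_eq_one_iff] at h2
      exact (QuotientGroup.eq_one_iff g).1 (congrArg Subtype.val h2)
  have hCsmall : ∀ g : G, g ∈ M → g ∉ Q →
      Nat.card ↥(M ⊓ Subgroup.centralizer ({g} : Set G)) ≤ 10 := by
    intro g hgM hgQ
    set C := M ⊓ Subgroup.centralizer ({g} : Set G) with hC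
    have h1 : Q ⊓ C ≤ Z := fun w hw => hQZ5 _ (hpow5 g hgM hgQ) w hw.1
      (((show Commute w g from Subgroup.mem_centralizer_singleton_iff.1 hw.2.2).pow_right _).eq.symm)
    rw [← (Q.subgroupOf C).card_mul_index, ← Subgroup.inf_subgroupOf_right,
      Nat.card_congr (Subgroup.subgroupOfEquivOfLe inf_le_right).toEquiv,
      Subgroup.inf_subgroupOf_right]
    refine le_trans (Nat.mul_le_mul ((Subgroup.card_le_of_le h1).trans hZ2) ?_)
      (le_of_eq (show 2 * 5 = 10 from rfl))
    show Q.relIndex C ≤ 5
    rw [← hMidx]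
    exact Subgroup.relIndex_le_of_le_right inf_le_left (by rw [hMidx]; norm_num)
  have hCQ : ∀ g ∈ Q, g ∉ Z → 2 * Nat.card ↥(M ⊓ Subgroup.centralizer ({g} : Set G)) ≤ Nat.card Q := by
    intro g hg hgZ
    set C := M ⊓ Subgroup.centralizer ({g} : Set G) with hC
    have hle : C ≤ Q := by
      intro w hw
      by_contra hwQ
      exact hgZ (hQZ5 _ (hpow5 w hw.1 hwQ) g hg
        (((show Commute g w from (Subgroup.mem_centralizer_singleton_iff.1 hw.2).symm).pow_right
          _).eq.symm))
    have hne : C.relIndex Q ≠ 1 := by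
      rw [Ne, Subgroup.relIndex_eq_one]
      intro hQC
      exact hgZ ((hZmem g).2 ⟨hg, fun y hy => Subgroup.mem_centralizer_singleton_iff.1 (hQC hy).2⟩)
    have h2 : 2 ≤ C.relIndex Q := by
      have : (C.subgroupOf Q).index ≠ 0 := Subgroup.index_ne_zero_of_finite
      have : C.relIndex Q = (C.subgroupOf Q).index := rfl
      omega
    rw [← (C.subgroupOf Q).index_mul_card, Nat.card_congr (Subgroup.subgroupOfEquivOfLe hle).toEquiv]
    exact Nat.mul_le_mul_right _ h2
  have hkM : Nat.card (ConjClasses M) ≤ 13 := by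
    haveI : Fintype M := Fintype.ofFinite M
    have hC : ∀ u : M, Nat.card (Subgroup.centralizer ({u} : Set M)) =
        Nat.card ↥(M ⊓ Subgroup.centralizer ({(u : G)} : Set G)) := fun u => Nat.card_congr
      { toFun := fun x => ⟨(x.1 : G), x.1.2, Subgroup.mem_centralizer_singleton_iff.2
          (congrArg Subtype.val (Subgroup.mem_centralizer_singleton_iff.1 x.2))⟩
        invFun := fun x => ⟨⟨x, x.2.1⟩, Subgroup.mem_centralizer_singleton_iff.2
          (Subtype.ext (Subgroup.mem_centralizer_singleton_iff.1 x.2.2))⟩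
        left_inv := fun x => rfl
        right_inv := fun x => rfl }
    set s := Nat.card Q with hs
    have hsplit : ∀ u : M, Nat.card (Subgroup.centralizer ({u} : Set M)) ≤
        (if (u : G) ∈ Z then 5 * s else 0) + (if (u : G) ∈ Q then s / 2 else 0) +
          (if (u : G) ∈ Q then 0 else 10) := by
      intro u
      rw [hC]
      by_cases hZu : (u : G) ∈ Z
      · rw [if_pos hZu, if_pos (hZQ hZu), if_pos (hZQ hZu)]
        have := Subgroup.card_le_of_le (inf_le_left : M ⊓ Subgroup.centralizer ({(u : G)} : Set G) ≤ M)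
        omega
      · by_cases hQu : (u : G) ∈ Q
        · rw [if_neg hZu, if_pos hQu, if_pos hQu]
          have := hCQ _ hQu hZu
          omega
        · rw [if_neg hZu, if_neg hQu, if_neg hQu]
          have := hCsmall _ u.2 hQu
          omega
    have hcount : ∀ S : Subgroup G, S ≤ M →
        (Finset.univ.filter fun u : M => (u : G) ∈ S).card = Nat.card S := fun S hS => by
      rw [← Fintype.card_subtype, ← Nat.card_eq_fintype_card]
      exact Nat.card_congr (Subgroup.subgroupOfEquivOfLe hS).toEquiv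
    have hsum : ∑ u : M, Nat.card (Subgroup.centralizer ({u} : Set M)) ≤
        2 * (5 * s) + s * (s / 2) + (5 * s - s) * 10 := by
      refine (Finset.sum_le_sum fun u _ => hsplit u).trans ?_
      rw [Finset.sum_add_distrib, Finset.sum_add_distrib, ← Finset.sum_filter, ← Finset.sum_filter,
        Finset.sum_ite, Finset.sum_const_zero, zero_add, Finset.sum_const, Finset.sum_const,
        Finset.sum_const, smul_eq_mul, smul_eq_mul, smul_eq_mul, hcount Z (hZQ.trans hQM),
        hcount Q hQM, ← Finset.compl_filter, Finset.card_compl, hcount Q hQM,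
        ← Nat.card_eq_fintype_card, hcardM, ← hs]
      exact Nat.add_le_add_right (Nat.add_le_add_right (Nat.mul_le_mul_right _ hZ2) _) _
    rw [CoprimeTrans.sum_card_centralizer, hcardM] at hsum
    have hs0 : 0 < s := Nat.card_pos
    have h16 : s * (s / 2) ≤ s * 16 := Nat.mul_le_mul_left _ (by omega)
    have e1 : 5 * s - s = 4 * s := by omega
    rw [e1] at hsum
    by_contra hlt
    have : 14 * (5 * s) ≤ Nat.card (ConjClasses M) * (5 * s) := Nat.mul_le_mul_right _ (by omega)
    linarith
  -- the index of `M`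
  have hidx : M.index ≤ 4 := by
    rw [hM, Subgroup.index_comap_of_surjective _ (QuotientGroup.mk'_surjective Q)]
    let φ : G ⧸ Q →* MulAut D := MulAut.conjNormal
    haveI : IsCyclic D := isCyclic_of_prime_card hD5
    have hker : φ.ker = D := by
      set C := φ.ker with hCdef
      have hDC : D ≤ C := fun x hx => by
        rw [hCdef, MonoidHom.mem_ker]
        refine MulEquiv.ext fun y => Subtype.ext ?_
        show ((MulAut.conjNormal x y : D) : G ⧸ Q) = y
        rw [MulAut.conjNormal_apply, hDc x hx y y.2, mul_inv_cancel_right]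
      obtain ⟨T⟩ : Nonempty (Sylow 2 C) := inferInstance
      have hTn : (T : Subgroup C).Normal := by
        have htop : (T : Subgroup C) ⊔ D.subgroupOf C = ⊤ := by
          refine Subgroup.eq_top_of_card_eq _ ?_
          refine le_antisymm (Subgroup.card_le_card_group _) ?_
          obtain ⟨b, hb⟩ := IsPGroup.iff_card.1 T.isPGroup'
          have hdvd : Nat.card C ∣ Nat.card (T : Subgroup C) * 5 := by
            have h1 : Nat.card C ∣ 2 ^ a * 5 := hG ▸ (Subgroup.card_subgroup_dvd_card C).trans
              (Subgroup.card_quotient_dvd_card Q)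
            obtain ⟨i, j, hi, hj, hij⟩ := (Nat.dvd_mul.1 h1)
            obtain ⟨c, -, rfl⟩ := (Nat.dvd_prime_pow Nat.prime_two).1 hi
            rw [← hij]
            refine Nat.mul_dvd_mul (T.pow_dvd_card_of_pow_dvd_card ?_) hj
            rw [← hij]; exact dvd_mul_right _ _
          refine Nat.le_of_dvd Nat.card_pos (hdvd.trans (Nat.Coprime.mul_dvd_of_dvd_of_dvd ?_
            (Subgroup.card_dvd_of_le le_sup_left) ?_))
          · rw [hb]; exact Nat.Coprime.pow_left b (by norm_num)
          · rw [← hD5, ← Nat.card_congr (Subgroup.subgroupOfEquivOfLe hDC).toEquiv]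
            exact Subgroup.card_dvd_of_le le_sup_right
        rw [← Subgroup.normalizer_eq_top_iff, eq_top_iff, ← htop]
        refine sup_le Subgroup.le_normalizer fun x hx => ?_
        have hx' : ∀ c : C, c * x = x * c := fun c => Subtype.ext (by
          have h1 := congrArg (fun f : MulAut D => ((f ⟨(x : G ⧸ Q), hx⟩ : D) : G ⧸ Q))
            (MonoidHom.mem_ker.1 c.2)
          simp only [φ, MulAut.conjNormal_apply, MulAut.one_apply] at h1
          exact mul_inv_eq_iff_eq_mul.1 h1)
        rw [Subgroup.mem_normalizer_iff]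
        intro t
        rw [← hx' t, mul_inv_cancel_right]
      haveI := hTn
      haveI := T.characteristic_of_normal hTn
      haveI : C.Normal := MonoidHom.normal_ker φ
      haveI : ((T : Subgroup C).map C.subtype).Normal := inferInstance
      have hT1 := hno2 ((T : Subgroup C).map C.subtype) inferInstance (T.isPGroup'.map C.subtype)
      rw [Subgroup.map_eq_bot_iff_of_injective _ C.subtype_injective] at hT1
      refine (Subgroup.eq_of_le_of_card_ge hDC ?_).symm
      rw [hD5]
      have hdvd : Nat.card C ∣ 2 ^ a * 5 := hG ▸ (Subgroup.card_subgroup_dvd_card C).trans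
        (Subgroup.card_quotient_dvd_card Q)
      have hodd : Nat.Coprime (Nat.card C) (2 ^ a) := by
        refine Nat.Coprime.pow_right a (Nat.Coprime.symm (Nat.prime_two.coprime_iff_not_dvd.2 fun h => ?_))
        have := T.dvd_card_of_dvd_card h
        rw [hT1, Subgroup.card_bot] at this
        norm_num at this
      exact Nat.le_of_dvd (by norm_num) (hodd.dvd_of_dvd_mul_left hdvd)
    haveI : Finite (MulAut D) := Finite.of_injective (fun f : MulAut D => (f : D → D)) DFunLike.coe_injective
    have h := φ.ker.index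
    rw [← hker, Subgroup.index_ker]
    refine (Subgroup.card_le_card_group _).trans ?_
    rw [IsCyclic.card_mulAut, hD5]
    decide
  -- conclusion
  intro v hv
  have hq : Nat.card V = 81 := by rw [natCard_space (p := 3), h4]; rfl
  have hce := card_eq ρ htrans hv
  rw [hq] at hce
  have hG640 : Nat.card G ≤ 640 := by
    rw [← M.card_mul_index, hcardM]
    calc 5 * Nat.card Q * M.index ≤ 5 * 32 * 4 :=
          Nat.mul_le_mul (Nat.mul_le_mul_left 5 hQ32) hidx
      _ = 640 := rfl
  have hk : Nat.card (ConjClasses G) ≤ 52 :=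
    (classes_le_index_mul M).trans (Nat.mul_le_mul hidx hkM)
  have hh := classes_le_card (stab ρ v)
  norm_num at hce
  rw [hq]
  exact ⟨by omega, fun he => by omega⟩

end CfsgLib.FGS74.TransKGV
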