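import Cfsg.Agent.CoprimeTransitive.Partition
import Cfsg.Agent.GroupBasics.Conjugates

/-!
# Coprime linear groups on a plane

Either some non-scalar element has a normal centraliser (of index at most two), or the group is small
modulo scalars.
-/

set_option autoImplicit false
set_option linter.style.haveILetI false
set_option linter.unusedSectionVars false

namespace CfsgLib.FGS74.TransKGV

variable {K W : Type*} [Field K] [AddCommGroup W] [Module K W] {M : Type*} [Group M]

/-- The elements acting as scalars. -/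
def scalarSub (σ : M →* (W ≃ₗ[K] W)) : Subgroup M where
  carrier := {m | ∃ c : K, ∀ w, σ m w = c • w}
  one_mem' := ⟨1, fun w => by simp⟩
  mul_mem' := fun {a b} ha hb => by
    obtain ⟨c, hc⟩ := ha
    obtain ⟨c', hc'⟩ := hb
    refine ⟨c' * c, fun w => ?_⟩
    rw [map_mul, LinearEquiv.mul_apply, hc', map_smul, hc, smul_smul]
  inv_mem' := fun {a} ha => by
    obtain ⟨c, hc⟩ := ha
    have h : ∀ w, σ a (σ a⁻¹ w) = w := fun w => by
      rw [← LinearEquiv.mul_apply, ← map_mul, mul_inv_cancel, map_one]; rfl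
    by_cases h0 : c = 0
    · refine ⟨1, fun w => ?_⟩
      have h1 : ∀ u : W, u = 0 := fun u => by
        have := h u
        rw [hc, h0, zero_smul] at this
        exact this.symm
      rw [h1 (σ a⁻¹ w), h1 (_ • w)]
    · refine ⟨c⁻¹, fun w => ?_⟩
      have := h w
      rw [hc] at this
      exact (eq_inv_smul_iff₀ h0).2 this

theorem mem_scalarSub {σ : M →* (W ≃ₗ[K] W)} {m : M} :
    m ∈ scalarSub σ ↔ ∃ c : K, ∀ w, σ m w = c • w := Iff.rfl

theorem scalarSub_le_center (σ : M →* (W ≃ₗ[K] W)) (hσ : Function.Injective σ) :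
    scalarSub σ ≤ Subgroup.center M := by
  rintro z ⟨c, hc⟩
  rw [Subgroup.mem_center_iff]
  intro g
  refine hσ (LinearEquiv.ext fun w => ?_)
  rw [map_mul, map_mul, LinearEquiv.mul_apply, LinearEquiv.mul_apply, hc, hc, map_smul]

theorem card_scalarSub_le [Finite K] [Nontrivial W] (σ : M →* (W ≃ₗ[K] W))
    (hσ : Function.Injective σ) : Nat.card (scalarSub σ) ≤ Nat.card K - 1 := by
  obtain ⟨w, hw⟩ := exists_ne (0 : W)
  rw [← Nat.card_units]
  let f : scalarSub σ → Kˣ := fun z => Units.mk0 z.2.choose fun h0 => by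
    have := z.2.choose_spec w
    rw [h0, zero_smul] at this
    exact hw ((LinearEquiv.map_eq_zero_iff _).1 this)
  refine Nat.card_le_card_of_injective f fun a b h => ?_
  have h' : a.2.choose = b.2.choose := congrArg (fun u : Kˣ => (u : K)) h
  exact Subtype.ext (hσ (LinearEquiv.ext fun u => by rw [a.2.choose_spec, b.2.choose_spec, h']))

/-- In a plane a non-scalar map has a cyclic vector. -/
theorem exists_cyclic (h2 : Module.finrank K W = 2) (f : W →ₗ[K] W)
    (hf : ¬ ∃ c : K, ∀ w, f w = c • w) : ∃ v, LinearIndependent K ![v, f v] := by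
  by_contra hall
  push Not at hall
  haveI : Module.Finite K W := Module.finite_of_finrank_eq_succ h2
  set b := Module.finBasisOfFinrankEq K W h2
  have heig : ∀ v : W, v ≠ 0 → ∃ c : K, f v = c • v := by
    intro v hv
    have := hall v
    rw [LinearIndependent.pair_iff' hv] at this
    push Not at this
    obtain ⟨c, hc⟩ := this
    exact ⟨c, hc.symm⟩
  obtain ⟨x, hx⟩ := heig (b 0) (b.ne_zero 0)
  obtain ⟨y, hy⟩ := heig (b 1) (b.ne_zero 1)
  obtain ⟨z, hz⟩ := heig (b 0 + b 1) fun h0 => by
    have := congrArg (fun u => b.repr u 0) h0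
    simp at this
  rw [map_add, hx, hy, smul_add] at hz
  have h0 := congrArg (fun u => b.repr u 0) hz
  have h1 := congrArg (fun u => b.repr u 1) hz
  simp at h0 h1
  refine hf ⟨x, fun w => ?_⟩
  have hb : f = x • LinearMap.id := b.ext fun i => by
    fin_cases i
    · simpa using hx
    · simp only [Fin.mk_one, LinearMap.smul_apply, LinearMap.id_coe, id_eq]
      rw [hy, h1, h0]
  rw [hb]
  rfl

/-- Coordinates with respect to a cyclic vector. -/
theorem exists_coords (h2 : Module.finrank K W = 2) {v u : W} (hli : LinearIndependent K ![v, u])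
    (w : W) : ∃ a b : K, w = a • v + b • u := by
  haveI : Module.Finite K W := Module.finite_of_finrank_eq_succ h2
  have hs := hli.span_eq_top_of_card_eq_finrank (by rw [h2]; rfl)
  have hw : w ∈ Submodule.span K (Set.range ![v, u]) := hs ▸ Submodule.mem_top
  rw [Matrix.range_cons_cons_empty, Submodule.mem_span_pair] at hw
  obtain ⟨a, b, hab⟩ := hw
  exact ⟨a, b, hab.symm⟩

theorem eq_of_eq_on_pair (h2 : Module.finrank K W = 2) {v u : W}
    (hli : LinearIndependent K ![v, u]) {f g : W →ₗ[K] W} (hv : f v = g v) (hu : f u = g u) :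
    f = g := LinearMap.ext fun w => by
  obtain ⟨a, b, rfl⟩ := exists_coords h2 hli w
  rw [map_add, map_add, map_smul, map_smul, map_smul, map_smul, hv, hu]

variable [Finite M] {p : ℕ} [CharP K p]

/-- **The plane dichotomy.** -/
theorem plane_dichotomy (hp : p.Prime) (hp2 : p ≠ 2) (σ : M →* (W ≃ₗ[K] W))
    (hσ : Function.Injective σ) (h2 : Module.finrank K W = 2) (hco : ¬ p ∣ Nat.card M) :
    (∃ g, g ∉ scalarSub σ ∧ (Subgroup.centralizer ({g} : Set M)).Normal ∧
      (Subgroup.centralizer ({g} : Set M)).index ≤ 2 ∧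
      (∀ a ∈ Subgroup.centralizer ({g} : Set M), ∀ b ∈ Subgroup.centralizer ({g} : Set M),
        a * b = b * a)) ∨
    ((∀ g ∉ scalarSub σ, (scalarSub σ).relIndex (Subgroup.centralizer ({g} : Set M)) ^ 2 ≤
        (scalarSub σ).index) ∧
      Nat.card (ConjClasses M) ≤ Nat.card (scalarSub σ) * (1 + Nat.sqrt (scalarSub σ).index) ∧
      ((scalarSub σ).index ≤ 20 ∨
        (((scalarSub σ).index = 12 ∨ (scalarSub σ).index = 24 ∨ (scalarSub σ).index = 60) ∧
          2 * Nat.card (ConjClasses M) ≤ 9 * Nat.card (scalarSub σ)))) := by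
  classical
  have h2K : (2 : K) ≠ 0 := by
    intro h0
    have h1 : ((2 : ℕ) : K) = 0 := by exact_mod_cast h0
    rw [CharP.cast_eq_zero_iff K p] at h1
    exact hp2 ((Nat.prime_dvd_prime_iff_eq hp Nat.prime_two).1 h1)
  set Z := scalarSub σ with hZdef
  set C : M → Subgroup M := fun g => Subgroup.centralizer ({g} : Set M) with hC
  have hmem : ∀ g x, x ∈ C g ↔ Commute x g := fun g x => by
    rw [hC, Subgroup.mem_centralizer_singleton_iff]; exact Iff.rfl
  have hcm : ∀ {x g : M}, Commute x g → ∀ w, σ x (σ g w) = σ g (σ x w) := fun {x g} h w => by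
    rw [← LinearEquiv.mul_apply, ← LinearEquiv.mul_apply, ← map_mul, ← map_mul, h.eq]
  -- a commuting element is a polynomial in a non-scalar one
  have hpoly : ∀ g ∉ Z, ∃ v, LinearIndependent K ![v, σ g v] ∧
      ∀ x, Commute x g → ∃ a b : K, ∀ w, σ x w = a • w + b • σ g w := by
    intro g hg
    obtain ⟨v, hv⟩ := exists_cyclic h2 (σ g).toLinearMap hg
    refine ⟨v, hv, fun x hx => ?_⟩
    obtain ⟨a, b, hab⟩ := exists_coords h2 hv (σ x v)
    simp only [LinearEquiv.coe_coe] at hv hab
    refine ⟨a, b, fun w => ?_⟩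
    have := eq_of_eq_on_pair h2 hv (f := (σ x).toLinearMap)
      (g := a • LinearMap.id + b • (σ g).toLinearMap) (by simpa using hab) (by
        simp only [LinearEquiv.coe_coe, LinearMap.add_apply, LinearMap.smul_apply, LinearMap.id_coe, id_eq]
        rw [hcm hx, hab, map_add, map_smul, map_smul])
    simpa using LinearMap.congr_fun this w
  have hab : ∀ g ∉ Z, ∀ a b : M, Commute a g → Commute b g → Commute a b := by
    intro g hg a b ha hb
    obtain ⟨v, -, hp'⟩ := hpoly g hg
    obtain ⟨x, y, hxy⟩ := hp' a ha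
    obtain ⟨x', y', hxy'⟩ := hp' b hb
    refine hσ (LinearEquiv.ext fun w => ?_)
    rw [map_mul, map_mul, LinearEquiv.mul_apply, LinearEquiv.mul_apply]
    simp only [hxy, hxy', map_add, map_smul]
    module
  -- at most one other conjugate in the centraliser
  have hconj : ∀ g ∉ Z, ∀ h₁ h₂ : M, Commute (h₁ * g * h₁⁻¹) g → Commute (h₂ * g * h₂⁻¹) g →
      h₁ * g * h₁⁻¹ ≠ g → h₂ * g * h₂⁻¹ ≠ g → h₁ * g * h₁⁻¹ = h₂ * g * h₂⁻¹ := by
    intro g hg h₁ h₂ hc₁ hc₂ hn₁ hn₂
    obtain ⟨v, hv, hp'⟩ := hpoly g hg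
    obtain ⟨a, b, hgg⟩ := exists_coords h2 hv (σ g (σ g v))
    have hq : ∀ w, σ g (σ g w) = a • w + b • σ g w := by
      intro w
      have := eq_of_eq_on_pair h2 hv (f := (σ g).toLinearMap.comp (σ g).toLinearMap)
        (g := a • LinearMap.id + b • (σ g).toLinearMap) (by simpa using hgg) (by
          simp only [LinearMap.comp_apply, LinearEquiv.coe_coe, LinearMap.add_apply,
            LinearMap.smul_apply, LinearMap.id_coe, id_eq]
          conv_lhs => rw [hgg, map_add, map_smul, map_smul])
      simpa using LinearMap.congr_fun this w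
    -- the equation of a conjugate
    have key : ∀ h : M, Commute (h * g * h⁻¹) g → h * g * h⁻¹ ≠ g →
        ∀ w, σ (h * g * h⁻¹) w = b • w - σ g w := by
      intro h hc hne
      obtain ⟨α, β, hαβ⟩ := hp' _ hc
      have hβ : β ≠ 0 := by
        intro h0
        refine hg ⟨α, fun w => ?_⟩
        have h1 : σ (h * g * h⁻¹) (σ h w) = α • σ h w := by rw [hαβ, h0, zero_smul, add_zero]
        have h3 : σ (h * g * h⁻¹) (σ h w) = σ h (σ g w) := by
          rw [← LinearEquiv.mul_apply, ← LinearEquiv.mul_apply, ← map_mul, ← map_mul,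
            inv_mul_cancel_right]
        rw [h3, ← map_smul] at h1
        exact (σ h).injective h1
      have hq' : σ (h * g * h⁻¹) (σ (h * g * h⁻¹) v) = a • v + b • σ (h * g * h⁻¹) v := by
        have e : ∀ w, σ (h * g * h⁻¹) w = σ h (σ g (σ h⁻¹ w)) := fun w => by
          rw [map_mul, map_mul, LinearEquiv.mul_apply, LinearEquiv.mul_apply]
        have e2 : ∀ w, σ h⁻¹ (σ h w) = w := fun w => by
          rw [← LinearEquiv.mul_apply, ← map_mul, inv_mul_cancel, map_one]; rfl
        have e3 : σ h (σ h⁻¹ v) = v := by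
          rw [← LinearEquiv.mul_apply, ← map_mul, mul_inv_cancel, map_one]; rfl
        rw [e, e, e2, hq, map_add, map_smul, map_smul, e3]
      rw [hαβ (σ (h * g * h⁻¹) v), hαβ v, map_add, map_smul, map_smul, hq] at hq'
      have h0 : (α * α + β * β * a - a - b * α) • v + (2 * α * β + β * β * b - b * β) • σ g v = 0 := by
        linear_combination (norm := module) hq'
      obtain ⟨E1, E2⟩ := LinearIndependent.pair_iff.1 hv _ _ h0
      have hα : 2 * α = b * (1 - β) := mul_left_cancel₀ hβ (by linear_combination E2)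
      have hprod : (1 - β) * (1 + β) * (b * b + 4 * a) = 0 := by
        linear_combination (-4 : K) * E1 + (2 * α + b * (1 - β) - 2 * b) * hα
      rcases mul_eq_zero.1 hprod with h1 | h1
      · rcases mul_eq_zero.1 h1 with h4 | h4
        · exfalso
          obtain rfl : β = 1 := by linear_combination -h4
          have hα0 : α = 0 := (mul_eq_zero.1 (show (2 : K) * α = 0 by linear_combination hα)).resolve_left h2K
          refine hne (hσ (LinearEquiv.ext fun w => ?_))
          rw [hαβ, hα0, zero_smul, zero_add, one_smul]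
        · obtain rfl : β = -1 := by linear_combination h4
          have hαb : α = b := mul_left_cancel₀ h2K (by linear_combination hα)
          intro w
          rw [hαβ, hαb]
          module
      · -- a repeated eigenvalue is impossible in a coprime group
        exfalso
        set c := b / 2 with hc'
        have hcb : b = 2 * c := by rw [hc']; field_simp
        have hca : a = -(c * c) :=
          mul_left_cancel₀ (mul_ne_zero h2K h2K) (by rw [hcb] at h1; linear_combination h1)
        have hpow : ∀ (k : ℕ) w, σ (g ^ (k + 1)) w =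
            c ^ (k + 1) • w + (((k + 1 : ℕ) : K) * c ^ k) • (σ g w - c • w) := by
          intro k
          induction k with
          | zero =>
            intro w
            rw [zero_add, pow_one, pow_one, pow_zero, mul_one, Nat.cast_one, one_smul]
            module
          | succ k ih =>
            intro w
            rw [pow_succ', map_mul, LinearEquiv.mul_apply, ih, map_add, map_smul, map_smul, map_sub,
              map_smul, hq, hca, hcb]
            push_cast
            module
        have hgp : g ^ p ∈ Z := by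
          refine ⟨c ^ p, fun w => ?_⟩
          have := hpow (p - 1) w
          rwa [Nat.sub_add_cancel hp.one_le, CharP.cast_eq_zero K p, zero_mul, zero_smul, add_zero]
            at this
        have hcop : (orderOf g).Coprime p :=
          ((hp.coprime_iff_not_dvd).2 fun hd => hco (hd.trans (orderOf_dvd_natCard g))).symm
        obtain ⟨m, hm⟩ := exists_pow_eq_self_of_coprime hcop.symm
        exact hg (hm ▸ pow_mem hgp m)
    exact hσ (LinearEquiv.ext fun w => by rw [key h₁ hc₁ hn₁, key h₂ hc₂ hn₂])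
  have htwo : ∀ g ∉ Z, ∃ g' : M, ∀ h : M, Commute (h * g * h⁻¹) g →
      h * g * h⁻¹ = g ∨ h * g * h⁻¹ = g' := by
    intro g hg
    by_cases hex : ∃ h, Commute (h * g * h⁻¹) g ∧ h * g * h⁻¹ ≠ g
    · obtain ⟨h₀, hc₀, hn₀⟩ := hex
      exact ⟨h₀ * g * h₀⁻¹, fun h hc => (em (h * g * h⁻¹ = g)).imp_right fun hn =>
        hconj g hg h h₀ hc hc₀ hn hn₀⟩
    · exact ⟨g, fun h hc => Or.inl (by by_contra hn; exact hex ⟨h, hc, hn⟩)⟩
  have hcomm : ∀ g ∉ Z, ∀ a ∈ C g, ∀ b ∈ C g, a * b = b * a :=
    fun g hg a ha b hb => (hab g hg a b ((hmem g a).1 ha) ((hmem g b).1 hb)).eq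
  by_cases hnorm : ∃ g, g ∉ Z ∧ (C g).Normal
  · obtain ⟨g, hg, hn⟩ := hnorm
    refine Or.inl ⟨g, hg, hn, ?_, hcomm g hg⟩
    rw [← GroupBasics.card_carrier_eq_index_centralizer]
    obtain ⟨g', hg'⟩ := htwo g hg
    refine (Set.ncard_le_ncard (t := {g, g'}) (fun y hy => ?_) (Set.toFinite _)).trans
      ((Set.ncard_insert_le _ _).trans (by rw [Set.ncard_singleton]))
    rw [ConjClasses.mem_carrier_iff_mk_eq, ConjClasses.mk_eq_mk_iff_isConj, isConj_comm,
      isConj_iff] at hy
    obtain ⟨h, rfl⟩ := hy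
    exact hg' h ((hmem g _).1 (hn.conj_mem g ((hmem g g).2 (Commute.refl g)) h))
  push Not at hnorm
  refine Or.inr ?_
  set N := Z.index with hN
  set d := Nat.card Z with hd
  have hZc := scalarSub_le_center σ hσ
  have hrel : ∀ g ∉ Z, Z.relIndex (C g) ^ 2 ≤ N := by
    intro g hg
    have hZC : ∀ x, Z ≤ C x := fun x z hz =>
      (hmem x z).2 (Subgroup.mem_center_iff.1 (hZc hz) x).symm
    obtain ⟨x, y, hy, hxy⟩ : ∃ x, ∃ y ∈ C g, x * y * x⁻¹ ∉ C g := by
      by_contra hh
      push Not at hh
      exact hnorm g hg ⟨fun y hy x => hh x y hy⟩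
    set g' := x * g * x⁻¹ with hg'def
    have hmap : C g' = (C g).map (MulAut.conj x).toMonoidHom := by
      ext z
      rw [hmem, Subgroup.mem_map_equiv, hmem, hg'def, MulAut.conj_symm_apply]
      have e : x⁻¹ * z * x = x⁻¹ * z * (x⁻¹)⁻¹ := by rw [inv_inv]
      rw [e]
      have e2 : z = x * (x⁻¹ * z * (x⁻¹)⁻¹) * x⁻¹ := by group
      conv_lhs => rw [e2]
      exact Commute.conj_iff x
    have hne : C g' ≠ C g := by
      intro h0
      refine hxy ?_
      rw [← h0, hmap, Subgroup.mem_map]
      exact ⟨y, hy, rfl⟩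
    have hg'Z : g' ∉ Z := fun h0 => hg (by
      have h1 := Subgroup.mem_center_iff.1 (hZc h0) x
      have : g = g' := by
        rw [hg'def] at h1 ⊢
        have h2 : x * g = g' * x := by rw [hg'def]; group
        rw [hg'def, ← h1] at h2
        exact mul_left_cancel h2
      exact this ▸ h0)
    have hinf : C g' ⊓ C g ≤ Z := by
      rintro z ⟨hz', hz⟩
      by_contra hzZ
      apply hne
      ext w
      rw [hmem, hmem]
      exact ⟨fun hw => hab g' hg'Z w g hw (hab z hzZ g g' ((hmem g z).1 hz).symm ((hmem g' z).1 hz').symm),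
        fun hw => hab g hg w g' hw (hab z hzZ g' g ((hmem g' z).1 hz').symm ((hmem g z).1 hz).symm)⟩
    have h1 : Z.relIndex (C g) ≤ (C g').index := by
      refine le_trans (Subgroup.relIndex_le_of_le_left hinf ?_) ?_
      · rw [Subgroup.inf_relIndex_right]; exact Subgroup.index_ne_zero_of_finite
      · rw [Subgroup.inf_relIndex_right, ← Subgroup.relIndex_top_right]
        exact Subgroup.relIndex_le_of_le_right le_top (by
          rw [Subgroup.relIndex_top_right]; exact Subgroup.index_ne_zero_of_finite)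
    have h3 : Z.relIndex (C g) = Z.relIndex (C g') := by
      have e : ∀ D : Subgroup M, Z ≤ D → Z.relIndex D * d = Nat.card D := fun D hD => by
        rw [hd, ← Nat.card_congr (Subgroup.subgroupOfEquivOfLe hD).toEquiv, mul_comm]
        exact (Z.subgroupOf D).card_mul_index
      refine Nat.eq_of_mul_eq_mul_right (Nat.card_pos : 0 < d) ?_
      rw [e _ (hZC g), e _ (hZC g'), hmap]
      exact (Subgroup.card_map_of_injective (MulEquiv.injective _)).symm
    calc Z.relIndex (C g) ^ 2 = Z.relIndex (C g') * Z.relIndex (C g) := by rw [sq]; rw [← h3]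
      _ ≤ Z.relIndex (C g') * (C g').index := Nat.mul_le_mul_left _ h1
      _ = N := Subgroup.relIndex_mul_index (hZC g')
  refine ⟨hrel, ?_⟩
  set k := Nat.card (ConjClasses M) with hk
  set s := Nat.sqrt N with hs
  have hkb : k ≤ d * (1 + s) := by
    haveI : Fintype M := Fintype.ofFinite M
    refine Nat.le_of_mul_le_mul_right ?_ (Nat.card_pos : 0 < Nat.card M)
    rw [← CoprimeTrans.sum_card_centralizer (H := M),
      ← Finset.sum_filter_add_sum_filter_not Finset.univ (fun g => g ∈ Z)]
    calc _ ≤ d * Nat.card M + Nat.card M * (s * d) := ?_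
      _ = _ := by ring
    refine Nat.add_le_add ?_ ?_
    · refine (Finset.sum_le_card_nsmul _ _ (Nat.card M) fun x _ => Subgroup.card_le_card_group _).trans
        (le_of_eq ?_)
      rw [smul_eq_mul, hd, Nat.card_eq_fintype_card (α := Z), Fintype.card_subtype]
    · refine (Finset.sum_le_card_nsmul _ _ (s * d) fun x hx => ?_).trans ?_
      · have hxZ := (Finset.mem_filter.1 hx).2
        have hle : Z.relIndex (C x) ≤ s := Nat.le_sqrt'.2 (hrel x hxZ)
        have hZx : Z ≤ C x := fun z hz => (hmem x z).2 (Subgroup.mem_center_iff.1 (hZc hz) x).symm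
        show Nat.card (C x) ≤ _
        rw [← (Z.subgroupOf (C x)).card_mul_index,
          Nat.card_congr (Subgroup.subgroupOfEquivOfLe hZx).toEquiv, mul_comm s d]
        exact Nat.mul_le_mul_left _ hle
      · rw [smul_eq_mul]
        exact Nat.mul_le_mul_right _ (by rw [Nat.card_eq_fintype_card]; exact Finset.card_le_univ _)
  refine ⟨hkb, ?_⟩
  have hd' : (0 : ℚ) < d := by exact_mod_cast (Nat.card_pos : 0 < Nat.card Z)
  have hT := CoprimeTrans.classes_types Z hZc hab htwo
  rw [← hN, ← hk, ← hd] at hT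
  rcases hT with h | ⟨h1, h⟩ | ⟨h1, h⟩ | ⟨h1, h⟩
  · left
    have h' : (N : ℚ) * d ≤ 4 * k := by
      have := mul_le_mul_of_nonneg_right h hd'.le
      rwa [show 4 * ((k : ℚ) / d) * d = 4 * k by field_simp] at this
    have h'' : N * d ≤ 4 * k := by exact_mod_cast h'
    have hss : s * s ≤ N := Nat.sqrt_le N
    have hN4 : N ≤ 4 * (1 + s) := by
      refine Nat.le_of_mul_le_mul_right ?_ (Nat.card_pos : 0 < Nat.card Z)
      rw [← hd]
      calc N * d ≤ 4 * k := h''
        _ ≤ 4 * (d * (1 + s)) := Nat.mul_le_mul_left _ hkb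
        _ = _ := by ring
    have hs4 : s ≤ 4 := by nlinarith
    omega
  · refine Or.inr ⟨Or.inl h1, ?_⟩
    rw [div_eq_iff hd'.ne'] at h
    have : ((2 * k : ℕ) : ℚ) ≤ ((9 * d : ℕ) : ℚ) := by push_cast; linarith
    exact_mod_cast this
  · refine Or.inr ⟨Or.inr (Or.inl h1), ?_⟩
    rw [div_eq_iff hd'.ne'] at h
    have : ((2 * k : ℕ) : ℚ) ≤ ((9 * d : ℕ) : ℚ) := by push_cast; linarith
    exact_mod_cast this
  · refine Or.inr ⟨Or.inr (Or.inr h1), ?_⟩
    rw [div_eq_iff hd'.ne'] at h
    have : ((2 * k : ℕ) : ℚ) ≤ ((9 * d : ℕ) : ℚ) := by push_cast; linarith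
    exact_mod_cast this

end CfsgLib.FGS74.TransKGV
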