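import Cfsg.Agent.FGS74.TransKGV.Count
import Cfsg.Agent.FGS74.TransKGV.Plane

/-!
# The bound from the field of an abelian normal subgroup
-/

set_option autoImplicit false
set_option linter.style.haveILetI false
set_option linter.unusedSectionVars false
set_option linter.unusedTactic false

namespace CfsgLib.FGS74.TransKGV

universe u

variable {p : ℕ} [Fact p.Prime] {V : Type u} [AddCommGroup V] [Module (ZMod p) V] [Finite V]
  [Nontrivial V] {G : Type*} [Group G] [Finite G]

theorem natCard_space : Nat.card V = p ^ Module.finrank (ZMod p) V := by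
  rw [Module.natCard_eq_pow_finrank (K := ZMod p), Nat.card_zmod]

theorem conj_apply (ρ : G →* (V ≃ₗ[ZMod p] V)) (x : G) (w : V) : ρ x (ρ x⁻¹ w) = w := by
  rw [← LinearEquiv.mul_apply, ← map_mul, mul_inv_cancel, map_one]; rfl

/-- An abelian normal subgroup whose field is the whole space, or a field over which the space is
a plane with a large prime, gives the bound. -/
theorem good_of_abelian_normal (ρ : G →* (V ≃ₗ[ZMod p] V)) (hρ : Function.Injective ρ)
    (htrans : ∀ v w : V, v ≠ 0 → w ≠ 0 → ∃ g : G, ρ g v = w) (hco : ¬ p ∣ Nat.card G)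
    (A₀ : Subgroup G) [A₀.Normal] (hA₀ : ∀ a ∈ A₀, ∀ b ∈ A₀, a * b = b * a)
    (hd : ∀ d, d ∣ Module.finrank (ZMod p) V → Nat.card A₀ ∣ p ^ d - 1 →
      d = Module.finrank (ZMod p) V ∨ (2 * d = Module.finrank (ZMod p) V ∧ p ≠ 2 ∧
        ∃ l : ℕ, l.Prime ∧ l ∣ Nat.card G ∧ ¬ l ∣ d ∧ ¬ l ∣ p ^ d - 1 ∧ 5 ≤ l ∧
          (l = 5 → ¬ 3 ∣ Nat.card G))) :
    Good ρ := by
  classical
  have hp : p.Prime := Fact.out
  obtain ⟨K, _, _, _, χ, τ, d, hd1, hK, hAut, hχ, hχV, hτ, hker⟩ :=
    RegLinear.exists_field_data ρ hρ htrans A₀ hA₀
  set n := Module.finrank (ZMod p) V with hn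
  set m := Module.finrank K V with hm
  have hdm : n = d * m := by
    apply Nat.pow_right_injective hp.two_le
    show p ^ n = p ^ (d * m)
    rw [pow_mul, ← hK, hn, ← natCard_space (p := p) (V := V)]
    exact Module.natCard_eq_pow_finrank
  have hA₀d : Nat.card A₀ ∣ p ^ d - 1 := by
    have := Subgroup.card_dvd_of_injective χ hχ
    rwa [Nat.card_units, hK] at this
  have hcentM : ∀ g : G, (∀ a ∈ A₀, g * a = a * g) → g ∈ τ.ker := fun g hg =>
    MonoidHom.mem_ker.2 ((hker g).2 hg)
  have hA₀M : A₀ ≤ τ.ker := fun a ha => hcentM a fun b hb => hA₀ a ha b hb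
  have hMlin : ∀ g ∈ τ.ker, ∀ (c : K) (w : V), ρ g (c • w) = c • ρ g w := fun g hg c w => by
    rw [hτ, MonoidHom.mem_ker.1 hg]; rfl
  rcases hd d ⟨m, hdm⟩ hA₀d with hdn | ⟨h2d, hp2, l, hl, hlG, hld, hlK, hl5, hl3⟩
  · -- a line
    obtain ⟨v₀, hv₀⟩ := exists_ne (0 : V)
    have hsurj : Function.Surjective fun c : K => c • v₀ :=
      ((Nat.bijective_iff_injective_and_card (fun c : K => c • v₀)).2
        ⟨smul_left_injective K hv₀, by rw [hK, hdn, hn, natCard_space (p := p) (V := V)]⟩).2
    refine good_of_selfCentralizing ρ hρ htrans hco τ.ker (fun a ha b hb => hρ (LinearEquiv.ext fun w => ?_))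
      fun g hg => hcentM g fun a ha => hg a (hA₀M ha)
    obtain ⟨c, rfl⟩ := hsurj w
    obtain ⟨x, hx⟩ := hsurj (ρ a v₀)
    obtain ⟨y, hy⟩ := hsurj (ρ b v₀)
    simp only at hx hy
    rw [map_mul, map_mul, LinearEquiv.mul_apply, LinearEquiv.mul_apply]
    simp only [hMlin a ha, hMlin b hb, ← hx, ← hy, smul_smul]
    congr 1
    ring
  · -- a plane
    haveI : Fintype K := Fintype.ofFinite K
    have hd0 : 0 < d := hd1
    haveI : CharP K p := charP_of_card_eq_prime_pow (R := K) (p := p) (f := d)
      (by rw [← Nat.card_eq_fintype_card, hK])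
    have hm2 : Module.finrank K V = 2 := by
      rw [← hm]
      exact Nat.eq_of_mul_eq_mul_left hd0 (by rw [← hdm, ← h2d, mul_comm])
    set M := τ.ker with hMdef
    let σ : M →* (V ≃ₗ[K] V) :=
      { toFun := fun g => { (ρ (g : G)).toAddEquiv with map_smul' := fun c w => hMlin g g.2 c w }
        map_one' := LinearEquiv.ext fun w => by
          show ρ ((1 : M) : G) w = w
          simp
        map_mul' := fun a b => LinearEquiv.ext fun w => by
          show ρ ((a * b : M) : G) w = ρ (a : G) (ρ (b : G) w)
          simp }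
    have hσ : ∀ (g : M) (w : V), σ g w = ρ (g : G) w := fun _ _ => rfl
    have hσinj : Function.Injective σ := fun a b hab => Subtype.ext (hρ (LinearEquiv.ext fun w => by
      rw [← hσ, ← hσ, hab]))
    have hlM : l ∣ Nat.card M := by
      have h1 : M.index ∣ d := by
        rw [hMdef, Subgroup.index_ker]
        haveI : Finite (K ≃+* K) := Nat.finite_of_card_ne_zero (by omega)
        rw [← hAut]; exact Subgroup.card_subgroup_dvd_card _
      rw [← M.card_mul_index] at hlG
      exact (hl.dvd_mul.1 hlG).resolve_right fun h => hld (h.trans h1)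
    haveI := Fact.mk hl
    set Z := scalarSub σ with hZdef
    have hZl : ∀ y : M, y ∈ Z → orderOf y ≠ l := by
      intro y hy hyl
      obtain ⟨c, hc⟩ := hy
      obtain ⟨w, hw⟩ := exists_ne (0 : V)
      have hpow : ∀ k : ℕ, ∀ u, σ (y ^ k) u = c ^ k • u := by
        intro k
        induction k with
        | zero => intro u; simp
        | succ k ih => intro u; rw [pow_succ, map_mul, LinearEquiv.mul_apply, hc, map_smul, ih, smul_smul, pow_succ']
      have hcl : c ^ l = 1 := smul_left_injective K hw (by
        show c ^ l • w = (1 : K) • w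
        rw [← hpow, ← hyl, pow_orderOf_eq_one, map_one, one_smul]; rfl)
      have hc1 : c ≠ 1 := fun h => by
        have h1 : y = 1 := hσinj (LinearEquiv.ext fun u => by rw [hc, h, one_smul, map_one]; rfl)
        rw [h1, orderOf_one] at hyl
        exact hl.one_lt.ne hyl
      have hcu : c ≠ 0 := fun h => by rw [h, zero_pow hl.ne_zero] at hcl; exact zero_ne_one hcl
      have h2 : orderOf (Units.mk0 c hcu) = l := orderOf_eq_prime (Units.ext (by simpa using hcl))
        fun h => hc1 (congrArg (fun u : Kˣ => (u : K)) h)
      have h3 : orderOf (Units.mk0 c hcu) ∣ Nat.card Kˣ := orderOf_dvd_natCard _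
      rw [h2, Nat.card_units, hK] at h3
      exact hlK h3
    obtain ⟨y, hy⟩ := exists_prime_orderOf_dvd_card' l hlM
    have hyZ : y ∉ Z := fun h => hZl y h hy
    have hlZ : ¬ l ∣ Nat.card Z := fun h => by
      obtain ⟨z, hz⟩ := exists_prime_orderOf_dvd_card' l h
      exact hZl z z.2 (by rw [Subgroup.orderOf_coe, hz])
    have hlN : l ∣ Z.index := by
      rw [← Z.card_mul_index] at hlM
      exact (hl.dvd_mul.1 hlM).resolve_left hlZ
    have hcoM : ¬ p ∣ Nat.card M := fun h => hco (h.trans (Subgroup.card_subgroup_dvd_card _))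
    have hZc := scalarSub_le_center σ hσinj
    have hZC : ∀ x : M, Z ≤ Subgroup.centralizer ({x} : Set M) := fun x z hz =>
      Subgroup.mem_centralizer_singleton_iff.2 (Subgroup.mem_center_iff.1 (hZc hz) x).symm
    rcases plane_dichotomy hp hp2 σ hσinj hm2 hcoM with ⟨g, hg, hgn, hgi, hgc⟩ | ⟨hrel, -, hsmall⟩
    swap
    · exfalso
      rw [← hZdef] at hrel hsmall
      have hlrel : l ∣ Z.relIndex (Subgroup.centralizer ({y} : Set M)) := by
        have h1 : l ∣ Nat.card (Subgroup.centralizer ({y} : Set M)) := by
          rw [← hy, ← Subgroup.orderOf_mk y (Subgroup.mem_centralizer_singleton_iff.2 rfl :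
            y ∈ Subgroup.centralizer ({y} : Set M))]
          exact orderOf_dvd_natCard _
        rw [← (Z.subgroupOf _).card_mul_index,
          Nat.card_congr (Subgroup.subgroupOfEquivOfLe (hZC y)).toEquiv] at h1
        exact (hl.dvd_mul.1 h1).resolve_left hlZ
      have h2 : l ^ 2 ≤ Z.index := by
        refine le_trans (Nat.pow_le_pow_left (Nat.le_of_dvd ?_ hlrel) 2) (hrel y hyZ)
        exact Nat.pos_of_ne_zero Subgroup.index_ne_zero_of_finite
      have h25 : 25 ≤ l ^ 2 := by nlinarith
      rcases hsmall with h | ⟨h | h | h, -⟩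
      · omega
      · omega
      · omega
      · have : l = 5 := by
          rw [h] at hlN h2
          have : l ≤ 7 := by nlinarith
          interval_cases l <;> first | omega | (norm_num at hlN; done) | (norm_num at hl; done)
        refine hl3 this ((show 3 ∣ Z.index by rw [h]; norm_num).trans ?_)
        exact (Subgroup.index_dvd_card Z).trans (Subgroup.card_subgroup_dvd_card M)
    -- the normal centraliser is unique
    set C := Subgroup.centralizer ({g} : Set M) with hC
    have huniq : ∀ g' : M, g' ∉ Z → (Subgroup.centralizer ({g'} : Set M)).Normal →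
        (Subgroup.centralizer ({g'} : Set M)).index ≤ 2 →
        (∀ a ∈ Subgroup.centralizer ({g'} : Set M), ∀ b ∈ Subgroup.centralizer ({g'} : Set M),
          a * b = b * a) → Subgroup.centralizer ({g'} : Set M) = C := by
      intro g' hg' hn' hi' hc'
      by_contra hne
      have hinf : Subgroup.centralizer ({g'} : Set M) ⊓ C ≤ Z := by
        rintro z ⟨hz', hz⟩
        by_contra hzZ
        obtain ⟨v, hv⟩ := exists_cyclic hm2 (σ z).toLinearMap hzZ
        -- everything commuting with `z` commutes
        have hzc : ∀ a b : M, Commute a z → Commute b z → Commute a b := by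
          intro a b ha hb
          have key : ∀ x : M, Commute x z → ∃ α β : K, ∀ w, σ x w = α • w + β • σ z w := by
            intro x hx
            obtain ⟨α, β, hab⟩ := exists_coords hm2 hv (σ x v)
            simp only [LinearEquiv.coe_coe] at hab
            refine ⟨α, β, fun w => ?_⟩
            have := eq_of_eq_on_pair hm2 hv (f := (σ x).toLinearMap)
              (g := α • LinearMap.id + β • (σ z).toLinearMap) (by simpa using hab) (by
                simp only [LinearEquiv.coe_coe, LinearMap.add_apply, LinearMap.smul_apply,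
                  LinearMap.id_coe, id_eq]
                rw [← LinearEquiv.mul_apply, ← map_mul, hx.eq, map_mul, LinearEquiv.mul_apply, hab,
                  map_add, map_smul, map_smul])
            simpa using LinearMap.congr_fun this w
          obtain ⟨x, x', hx⟩ := key a ha
          obtain ⟨u, u', hu⟩ := key b hb
          refine hσinj (LinearEquiv.ext fun w => ?_)
          rw [map_mul, map_mul, LinearEquiv.mul_apply, LinearEquiv.mul_apply]
          simp only [hx, hu, map_add, map_smul]
          module
        have e1 := Subgroup.mem_centralizer_singleton_iff.1 hz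
        have e2 := Subgroup.mem_centralizer_singleton_iff.1 hz'
        have h1 : Commute g g' := hzc g g' e1.symm e2.symm
        apply hne
        ext w
        rw [Subgroup.mem_centralizer_singleton_iff, hC, Subgroup.mem_centralizer_singleton_iff]
        exact ⟨fun hw => hc' w (Subgroup.mem_centralizer_singleton_iff.2 hw) g
            (Subgroup.mem_centralizer_singleton_iff.2 h1.eq),
          fun hw => hgc w (Subgroup.mem_centralizer_singleton_iff.2 hw) g'
            (Subgroup.mem_centralizer_singleton_iff.2 h1.eq.symm)⟩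
      have h1 : Z.relIndex C ≤ 2 := by
        refine (le_trans (Subgroup.relIndex_le_of_le_left hinf ?_) ?_).trans hi'
        · rw [Subgroup.inf_relIndex_right]; exact Subgroup.index_ne_zero_of_finite
        · rw [Subgroup.inf_relIndex_right, ← Subgroup.relIndex_top_right]
          exact Subgroup.relIndex_le_of_le_right le_top (by
            rw [Subgroup.relIndex_top_right]; exact Subgroup.index_ne_zero_of_finite)
      have h2 : Z.index ≤ 4 := by
        rw [← Subgroup.relIndex_mul_index (hZC g)]
        calc _ ≤ 2 * 2 := Nat.mul_le_mul h1 hgi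
          _ = 4 := rfl
      have := Nat.le_of_dvd (Nat.pos_of_ne_zero Subgroup.index_ne_zero_of_finite) hlN
      omega
    haveI : C.Normal := hgn
    haveI hMn : M.Normal := MonoidHom.normal_ker τ
    -- `C` is normal in the whole group
    have hinv : ∀ (x : G) (c : M), c ∈ C → x * (c : G) * x⁻¹ ∈ C.map M.subtype := by
      intro x c hc
      let φ : M ≃* M := MulAut.conjNormal x
      have hφ : ∀ u : M, ((φ u : M) : G) = x * (u : G) * x⁻¹ := fun u => MulAut.conjNormal_apply x u
      have hg' : φ g ∉ Z := by
        rintro ⟨e, he⟩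
        refine hg ⟨τ x⁻¹ e, fun w => ?_⟩
        have h1 : ρ x⁻¹ (σ (φ g) (ρ x w)) = ρ x⁻¹ (e • ρ x w) := by rw [he]
        rw [hσ, hφ, hτ, map_mul, map_mul, LinearEquiv.mul_apply, LinearEquiv.mul_apply] at h1
        have e1 : ∀ u, ρ x⁻¹ (ρ x u) = u := fun u => by
          rw [← LinearEquiv.mul_apply, ← map_mul, inv_mul_cancel, map_one]; rfl
        simp only [e1] at h1
        exact h1
      have hmap : Subgroup.centralizer ({φ g} : Set M) = C.map φ.toMonoidHom := by
        ext z
        rw [Subgroup.mem_map_equiv, Subgroup.mem_centralizer_singleton_iff, hC,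
          Subgroup.mem_centralizer_singleton_iff]
        constructor <;> intro h
        · apply φ.injective; rw [map_mul, map_mul, φ.apply_symm_apply]; exact h
        · have := congrArg φ h; rwa [map_mul, map_mul, φ.apply_symm_apply] at this
      have heq := huniq (φ g) hg' (hmap ▸ hgn.map _ φ.surjective)
        (by rw [hmap]; exact (Subgroup.index_map_equiv C φ).trans_le hgi)
        (by
          rw [hmap]
          rintro _ ⟨a, ha, rfl⟩ _ ⟨b, hb, rfl⟩
          rw [← map_mul, ← map_mul, hgc a ha b hb])
      refine ⟨φ c, ?_, hφ c⟩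
      rw [← heq, hmap]
      exact ⟨c, hc, rfl⟩
    haveI : (C.map M.subtype).Normal := ⟨fun z hz x => by
      obtain ⟨c, hc, rfl⟩ := hz
      exact hinv x c hc⟩
    refine good_of_selfCentralizing ρ hρ htrans hco (C.map M.subtype) ?_ fun z hz => ?_
    · rintro _ ⟨a, ha, rfl⟩ _ ⟨b, hb, rfl⟩
      rw [← map_mul, ← map_mul, hgc a ha b hb]
    · have hA₀C : ∀ a ∈ A₀, a ∈ C.map M.subtype := fun a ha => ⟨⟨a, hA₀M ha⟩,
        Subgroup.mem_centralizer_singleton_iff.2 (Subtype.ext
          (((hker (g : G)).1 (MonoidHom.mem_ker.1 g.2) a ha).symm)), rfl⟩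
      have hzM : z ∈ M := hcentM z fun a ha => hz a (hA₀C a ha)
      exact ⟨⟨z, hzM⟩, Subgroup.mem_centralizer_singleton_iff.2 (Subtype.ext
        (hz (g : G) ⟨g, Subgroup.mem_centralizer_singleton_iff.2 rfl, rfl⟩)), rfl⟩

/-- A transitive coprime group of a plane over the prime field satisfies the bound. -/
theorem good_of_finrank_two (ρ : G →* (V ≃ₗ[ZMod p] V)) (hρ : Function.Injective ρ)
    (htrans : ∀ v w : V, v ≠ 0 → w ≠ 0 → ∃ g : G, ρ g v = w) (hco : ¬ p ∣ Nat.card G)
    (h2 : Module.finrank (ZMod p) V = 2) : Good ρ := by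
  classical
  have hp : p.Prime := Fact.out
  have hq : Nat.card V = p ^ 2 := by rw [natCard_space (p := p), h2]
  by_cases hp2 : p = 2
  · subst hp2
    refine good_of_regular ρ hρ htrans ?_
    haveI : Fintype V := Fintype.ofFinite V
    let π : G → Equiv.Perm {v : V // v ≠ 0} := fun g =>
      (ρ g).toEquiv.subtypeEquiv fun v => ((LinearEquiv.map_ne_zero_iff (ρ g)).symm)
    have hπ : Function.Injective π := fun a b h => hρ (LinearEquiv.ext fun v => by
      by_cases hv : v = 0
      · rw [hv, map_zero, map_zero]
      · exact congrArg Subtype.val (Equiv.congr_fun h ⟨v, hv⟩))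
    have h6 : Nat.card G ≤ 6 := by
      refine (Nat.card_le_card_of_injective π hπ).trans (le_of_eq ?_)
      rw [Nat.card_eq_fintype_card, Fintype.card_perm, Fintype.card_subtype_compl,
        Fintype.card_subtype_eq, ← Nat.card_eq_fintype_card, hq]
      rfl
    rw [hq]
    obtain ⟨v, hv⟩ := exists_ne (0 : V)
    have hce := card_eq ρ htrans hv
    rw [hq] at hce
    have hpos : 0 < Nat.card G := Nat.card_pos
    norm_num at hce ⊢
    omega
  rcases plane_dichotomy hp hp2 ρ hρ h2 hco with ⟨g, hg, hgn, -, hgc⟩ | ⟨-, hk, hsmall⟩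
  · haveI := hgn
    exact good_of_selfCentralizing ρ hρ htrans hco _ hgc fun z hz =>
      Subgroup.mem_centralizer_singleton_iff.2
        (hz g (Subgroup.mem_centralizer_singleton_iff.2 rfl))
  intro v hv
  set N := (scalarSub ρ).index with hN
  set d := Nat.card (scalarSub ρ) with hd
  set k := Nat.card (ConjClasses G) with hkdef
  set h := Nat.card (stab ρ v) with hh
  have hdp : d ≤ p - 1 := (card_scalarSub_le ρ hρ).trans (by rw [Nat.card_zmod])
  have hd0 : 0 < d := Nat.card_pos
  have hh0 : 0 < h := Nat.card_pos
  have hG : d * N = (p ^ 2 - 1) * h := by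
    rw [hd, hN, Subgroup.card_mul_index, card_eq ρ htrans hv, hq]
  have hkh := classes_le_card (stab ρ v)
  have hNh : (p + 1) * h ≤ N := by
    have e : p ^ 2 - 1 = (p + 1) * (p - 1) := by rw [← Nat.sq_sub_sq, one_pow]
    rw [e] at hG
    by_contra hlt
    have h1 : d * N < d * ((p + 1) * h) := Nat.mul_lt_mul_of_pos_left (by omega) hd0
    have h3 : d * ((p + 1) * h) ≤ (p - 1) * ((p + 1) * h) := Nat.mul_le_mul_right _ hdp
    rw [hG] at h1
    nlinarith
  have hlt : k + h < p ^ 2 := by
    have h5 : p = 3 ∨ p = 5 ∨ 7 ≤ p := by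
      have := hp.two_le
      by_contra hc
      push Not at hc
      have : p ≠ 4 := fun h => by rw [h] at hp; norm_num at hp
      have : p ≠ 6 := fun h => by rw [h] at hp; norm_num at hp
      omega
    rcases h5 with rfl | rfl | h7
    · -- `p = 3`
      rcases hsmall with hN20 | ⟨hN3, -⟩
      swap
      · exfalso
        refine hco ((show 3 ∣ N by rcases hN3 with h | h | h <;> rw [h] <;> norm_num).trans
          (Subgroup.index_dvd_card _))
      have hh4 : h ≤ 5 := by omega
      have hh2 : h ≤ 2 := by
        -- the stabiliser of a vector acts faithfully on the quotient line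
        obtain ⟨f, hf⟩ : ∃ f : V →ₗ[ZMod 3] ZMod 3, LinearMap.ker f = Submodule.span (ZMod 3) {v} := by
          obtain ⟨W, hW⟩ := Submodule.exists_isCompl (Submodule.span (ZMod 3) {v})
          have hfr : Module.finrank (ZMod 3) W = 1 := by
            have := Submodule.finrank_add_eq_of_isCompl hW
            rw [h2, finrank_span_singleton hv] at this
            omega
          obtain ⟨e⟩ := (finrank_eq_one_iff' (K := ZMod 3) (V := W)).1 hfr |>
            fun h => (⟨(LinearEquiv.ofFinrankEq W (ZMod 3) (by rw [hfr, Module.finrank_self]))⟩ :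
              Nonempty (W ≃ₗ[ZMod 3] ZMod 3))
          refine ⟨e.toLinearMap.comp (Submodule.projectionOnto W _ hW.symm), ?_⟩
          rw [LinearEquiv.ker_comp]
          exact Submodule.ker_projectionOnto hW.symm
        obtain ⟨w, hw⟩ : ∃ w, f w = 1 := by
          obtain ⟨u, hu⟩ : ∃ u, f u ≠ 0 := by
            by_contra hc
            push Not at hc
            have : Module.finrank (ZMod 3) (LinearMap.ker f) = 2 := by
              rw [LinearMap.ker_eq_top.2 (LinearMap.ext hc), finrank_top, h2]
            rw [hf, finrank_span_singleton hv] at this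
            omega
          exact ⟨(f u)⁻¹ • u, by rw [map_smul, smul_eq_mul, inv_mul_cancel₀ hu]⟩
        have hfg : ∀ (g : stab ρ v) (u : V), f (ρ (g : G) u) = f u * f (ρ (g : G) w) := by
          intro g u
          have hu : u - f u • w ∈ Submodule.span (ZMod 3) {v} := by
            rw [← hf, LinearMap.mem_ker, map_sub, map_smul, hw, smul_eq_mul, mul_one, sub_self]
          obtain ⟨c, hc⟩ := Submodule.mem_span_singleton.1 hu
          have hfv : f v = 0 := by
            rw [← LinearMap.mem_ker, hf]; exact Submodule.mem_span_singleton_self v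
          have e : u = f u • w + c • v := by rw [hc]; abel
          conv_lhs => rw [e]
          rw [map_add, map_smul, map_smul, mem_stab.1 g.2, map_add, map_smul, map_smul, hfv,
            smul_eq_mul, smul_zero, add_zero]
        let c : stab ρ v →* ZMod 3 :=
          { toFun := fun g => f (ρ (g : G) w)
            map_one' := by simp [hw]
            map_mul' := fun a b => by
              show f (ρ ((a * b : stab ρ v) : G) w) = _
              rw [Subgroup.coe_mul, map_mul, LinearEquiv.mul_apply, hfg, mul_comm] }
        have hc : Function.Injective c := by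
          refine (injective_iff_map_eq_one c).2 fun g hg => ?_
          change f (ρ (g : G) w) = 1 at hg
          have h1 : ρ (g : G) w - w ∈ Submodule.span (ZMod 3) {v} := by
            rw [← hf, LinearMap.mem_ker, map_sub, hg, hw, sub_self]
          obtain ⟨x, hx⟩ := Submodule.mem_span_singleton.1 h1
          have hgw : ρ (g : G) w = w + x • v := by rw [hx]; abel
          have hpow : ∀ i : ℕ, ρ ((g : G) ^ i) w = w + ((i : ZMod 3) * x) • v := by
            intro i
            induction i with
            | zero => simp
            | succ i ih =>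
              rw [pow_succ', map_mul, LinearEquiv.mul_apply, ih, map_add, map_smul, hgw,
                mem_stab.1 g.2]
              push_cast
              module
          have h3 : (g : G) ^ 3 = 1 := hρ (LinearEquiv.ext fun u => by
            have hv3 : ρ ((g : G) ^ 3) v = v := (pow_mem g.2 3 : (g : G) ^ 3 ∈ stab ρ v)
            have hw3 : ρ ((g : G) ^ 3) w = w := by
              rw [hpow]
              have : ((3 : ℕ) : ZMod 3) = 0 := ZMod.natCast_self 3
              rw [this, zero_mul, zero_smul, add_zero]
            have hu : u - f u • w ∈ Submodule.span (ZMod 3) {v} := by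
              rw [← hf, LinearMap.mem_ker, map_sub, map_smul, hw, smul_eq_mul, mul_one, sub_self]
            obtain ⟨y, hy⟩ := Submodule.mem_span_singleton.1 hu
            have e : u = f u • w + y • v := by rw [hy]; abel
            rw [map_one, LinearEquiv.coe_one, id_eq]
            conv_lhs => rw [e]
            rw [map_add, map_smul, map_smul, hw3, hv3, ← e])
          have h4 : orderOf (g : G) ∣ 3 := orderOf_dvd_of_pow_eq_one h3
          rcases (Nat.dvd_prime Nat.prime_three).1 h4 with h5 | h5
          · exact Subtype.ext (orderOf_eq_one_iff.1 h5)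
          · exact absurd (h5 ▸ orderOf_dvd_natCard (g : G)) hco
        let cu : stab ρ v →* (ZMod 3)ˣ := c.toHomUnits
        have hcu : Function.Injective cu := fun a b hab => hc (congrArg Units.val hab)
        refine (Nat.card_le_card_of_injective cu hcu).trans (le_of_eq ?_)
        rw [Nat.card_units, Nat.card_zmod]
      have hs : Nat.sqrt N ≤ 4 := by
        have := Nat.sqrt_le N
        nlinarith
      have hs' := Nat.sqrt_le N
      norm_num at hG ⊢
      have hd2 : d ≤ 2 := hdp
      interval_cases d
      · have : k ≤ 5 := by omega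
        omega
      · have h8 : N ≤ 8 := by omega
        have : Nat.sqrt N ≤ 2 := by nlinarith
        omega
    · rcases hsmall with hN20 | ⟨hN3, hk3⟩
      · have hs : Nat.sqrt N ≤ 4 := by
          have := Nat.sqrt_le N
          nlinarith
        have : d * (1 + Nat.sqrt N) ≤ 4 * 5 := Nat.mul_le_mul (by omega) (by omega)
        norm_num
        omega
      · have hN24 : N ≤ 24 := by
          rcases hN3 with h | h | h
          · omega
          · omega
          · exfalso
            exact hco ((show 5 ∣ N by rw [h]; norm_num).trans (Subgroup.index_dvd_card _))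
        norm_num
        omega
    · have hpp : 7 * p ≤ p ^ 2 := by nlinarith
      have h8 : 8 * h ≤ N := le_trans (Nat.mul_le_mul_right _ (by omega)) hNh
      rcases hsmall with hN20 | ⟨hN3, hk3⟩
      · have hs : Nat.sqrt N ≤ 4 := by
          have := Nat.sqrt_le N
          nlinarith
        have : d * (1 + Nat.sqrt N) ≤ (p - 1) * 5 := Nat.mul_le_mul hdp (by omega)
        omega
      · have : N ≤ 60 := by omega
        omega
  rw [hq]
  exact ⟨by omega, fun he => by omega⟩

end CfsgLib.FGS74.TransKGV
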