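import Cfsg.Agent.FGS74.TransKGV.EightyOne
import Cfsg.Agent.RegularLinear.Transitive
import Cfsg.Agent.S0205
import Cfsg.Agent.S0899
import Cfsg.Agent.S3430

/-!
# Class numbers of coprime transitive linear groups
-/

set_option autoImplicit false
set_option linter.style.haveILetI false
set_option linter.unusedSectionVars false
set_option linter.unusedTactic false

namespace CfsgLib.FGS74.TransKGV

universe u

variable {p : ℕ} [Fact p.Prime] {V : Type u} [AddCommGroup V] [Module (ZMod p) V] [Finite V]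
  [Nontrivial V] {G : Type*} [Group G] [Finite G]

/-- The exceptional dimensions in characteristic two. -/
theorem good_char_two (ρ : G →* (V ≃ₗ[ZMod p] V)) (hρ : Function.Injective ρ)
    (htrans : ∀ v w : V, v ≠ 0 → w ≠ 0 → ∃ g : G, ρ g v = w) (hco : ¬ p ∣ Nat.card G) (hp : p = 2)
    (hn4 : 4 ≤ Module.finrank (ZMod p) V) (hn18 : Module.finrank (ZMod p) V ≤ 18) : Good ρ := by
  classical
  subst hp
  set n := Module.finrank (ZMod 2) V with hn
  have hq : Nat.card V = 2 ^ n := natCard_space
  have hsol : Group.IsSolvable G := Cfsg.Agent.S0205.result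
    (Nat.not_even_iff_odd.1 fun h => hco (even_iff_two_dvd.1 h))
  rcases RegLinear.transitive_structure hsol ρ hρ htrans with ⟨F, _, _, e, he⟩ | h
  swap
  · exfalso
    simp only [Set.mem_insert_iff, Set.mem_singleton_iff, hq] at h
    interval_cases n <;> norm_num at h
  let A : Subgroup G :=
    { carrier := {g | ∃ a : F, ∀ v, e (ρ g v) = a * e v}
      one_mem' := ⟨1, fun v => by simp⟩
      mul_mem' := fun {g h} hg hh => by
        obtain ⟨a, ha⟩ := hg
        obtain ⟨b, hb⟩ := hh
        exact ⟨a * b, fun v => by rw [map_mul, LinearEquiv.mul_apply, ha, hb, mul_assoc]⟩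
      inv_mem' := fun {g} hg => by
        obtain ⟨a, ha⟩ := hg
        have h : ∀ v, e v = a * e (ρ g⁻¹ v) := fun v => by rw [← ha, conj_apply]
        have ha0 : a ≠ 0 := fun h0 => by
          obtain ⟨w, hw⟩ := exists_ne (0 : V)
          have := h w
          rw [h0, zero_mul] at this
          exact hw (e.injective (this.trans (map_zero e).symm))
        exact ⟨a⁻¹, fun v => by rw [h v, inv_mul_cancel_left₀ ha0]⟩ }
  have hA : ∀ g, g ∈ A ↔ ∃ a : F, ∀ v, e (ρ g v) = a * e v := fun g => Iff.rfl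
  choose a σ hσ using he
  have ha0 : ∀ g, a g ≠ 0 := fun g h0 => by
    obtain ⟨w, hw⟩ := exists_ne (0 : V)
    have := hσ g w
    rw [h0, zero_mul] at this
    exact hw ((LinearEquiv.map_eq_zero_iff (ρ g)).1 (e.injective (this.trans (map_zero e).symm)))
  haveI : A.Normal := ⟨fun g hg x => by
    obtain ⟨b, hb⟩ := (hA g).1 hg
    refine (hA _).2 ⟨σ x b, fun v => ?_⟩
    rw [map_mul, map_mul, LinearEquiv.mul_apply, LinearEquiv.mul_apply, hσ, hb, map_mul,
      mul_left_comm, ← hσ, conj_apply]⟩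
  haveI : Finite (F ≃+* F) := Finite.of_injective (fun s : F ≃+* F => (s : F → F)) DFunLike.coe_injective
  have hcardF : Nat.card F = 2 ^ n := by rw [← Nat.card_congr e.toEquiv, hq]
  haveI : CharP F 2 := charP_of_card_eq_prime_pow (R := F) (p := 2) (f := n)
    (by rw [← Nat.card_eq_fintype_card, hcardF])
  have hidx : A.index ≤ n := by
    rw [← RegLinear.card_ringAut (q := 2) hcardF, Subgroup.index_eq_card]
    refine Nat.card_le_card_of_injective (fun c : G ⧸ A => σ c.out) fun c d hcd => ?_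
    rw [← QuotientGroup.out_eq' c, ← QuotientGroup.out_eq' d, QuotientGroup.eq]
    set g := c.out
    set h := d.out
    refine (hA _).2 ⟨(σ g).symm ((a g)⁻¹ * a h), fun v => ?_⟩
    apply (σ g).injective
    rw [map_mul (σ g), RingEquiv.apply_symm_apply, mul_assoc, eq_inv_mul_iff_mul_eq₀ (ha0 g), ← hσ,
      ← LinearEquiv.mul_apply, ← map_mul, mul_inv_cancel_left, hσ h, show σ g = σ h from hcd]
  refine good_of_abelian_normal ρ hρ htrans hco A (fun g hg h hh => ?_) fun d hdn hdvd => Or.inl ?_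
  · obtain ⟨x, hx⟩ := (hA g).1 hg
    obtain ⟨y, hy⟩ := (hA h).1 hh
    refine hρ (LinearEquiv.ext fun v => e.injective ?_)
    rw [map_mul, map_mul, LinearEquiv.mul_apply, LinearEquiv.mul_apply, hx, hy, hy, hx, mul_left_comm]
  · by_contra hne
    have h1 : 2 ^ n - 1 ≤ Nat.card A * n := by
      rw [← hq]
      refine (Nat.le_of_dvd Nat.card_pos (RegLinear.card_sub_one_dvd ρ htrans)).trans ?_
      rw [← A.card_mul_index]
      exact Nat.mul_le_mul_left _ hidx
    have hd0 : 0 < d := Nat.pos_of_dvd_of_pos hdn (by omega)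
    have hd2 : d ≤ n / 2 := by
      obtain ⟨c, hc⟩ := hdn
      rcases c with _ | _ | c
      · omega
      · omega
      · have : d * 2 ≤ d * (c + 1 + 1) := Nat.mul_le_mul_left _ (by omega)
        omega
    have h2 : Nat.card A ≤ 2 ^ (n / 2) - 1 := by
      have h3 : 2 ≤ 2 ^ d := Nat.le_self_pow (by omega) 2
      have h4 := Nat.le_of_dvd (by omega) hdvd
      have h5 : 2 ^ d ≤ 2 ^ (n / 2) := Nat.pow_le_pow_right (by norm_num) hd2
      omega
    have h3 := h1.trans (Nat.mul_le_mul_right n h2)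
    interval_cases n <;> norm_num at h3

/-- Dimension six with a prime whose Sylow subgroup is normal. -/
theorem good_six (ρ : G →* (V ≃ₗ[ZMod p] V)) (hρ : Function.Injective ρ)
    (htrans : ∀ v w : V, v ≠ 0 → w ≠ 0 → ∃ g : G, ρ g v = w) (hco : ¬ p ∣ Nat.card G) (hp2 : p ≠ 2)
    (h6 : Module.finrank (ZMod p) V = 6) {r : ℕ} (hr : r.Prime) (hr7 : 13 ≤ r)
    (hpsl : r = 13 → ¬ 3 ∣ Nat.card G) (hrd : r ∣ p ^ 6 - 1)
    (hr12 : ¬ r ∣ p ^ 1 - 1 ∧ ¬ r ∣ p ^ 2 - 1) (h7 : 7 ∣ p ^ 6 - 1) (h73 : ¬ 7 ∣ p ^ 3 - 1) :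
    Good ρ := by
  classical
  haveI := Fact.mk hr
  have hdiv : p ^ 6 - 1 ∣ Nat.card G := by
    have := RegLinear.card_sub_one_dvd ρ htrans
    rwa [natCard_space (p := p), h6] at this
  obtain ⟨χ, -, -, -⟩ := exists_faithful_character ρ hρ hco
  haveI : Module.Finite (ZMod p) V := Module.Finite.of_finite
  let b := Module.finBasisOfFinrankEq (ZMod p) V h6
  let f : G →* Matrix (Fin 6) (Fin 6) (ZMod p) :=
    { toFun := fun g => LinearMap.toMatrixAlgEquiv b (ρ g).toLinearMap
      map_one' := by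
        rw [map_one]
        exact map_one (LinearMap.toMatrixAlgEquiv b)
      map_mul' := fun g h => by
        rw [map_mul]
        exact map_mul (LinearMap.toMatrixAlgEquiv b) _ _ }
  have hf : Function.Injective f := fun g h e => hρ (LinearEquiv.toLinearMap_injective
    ((LinearMap.toMatrixAlgEquiv b).injective e))
  obtain ⟨τ, hτ⟩ := CoprimeTrans.exists_character (p := p)
    (((Fact.out : p.Prime).coprime_iff_not_dvd.2 hco).symm) f hf
  obtain ⟨R⟩ : Nonempty (Sylow r G) := inferInstance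
  have hK : ∀ K : Subgroup G, ¬ r ^ 2 ∣ Nat.card K → ∀ S : Sylow r K, (S : Subgroup K).Normal := by
    intro K hK2 S
    by_cases hrK : r ∣ Nat.card K
    swap
    · obtain ⟨i, hi⟩ := IsPGroup.iff_card.1 S.isPGroup'
      have hi0 : i = 0 := by
        by_contra hi0
        exact hrK ((dvd_pow_self r hi0).trans (hi ▸ Subgroup.card_subgroup_dvd_card _))
      rw [hi0, pow_zero] at hi
      rw [Subgroup.eq_bot_of_card_eq _ hi]
      infer_instance
    obtain ⟨χ', hχc, hfaith, hdeg⟩ := exists_faithful_character (ρ.comp K.subtype)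
      (hρ.comp K.subtype_injective) fun h => hco (h.trans (Subgroup.card_subgroup_dvd_card _))
    rw [h6] at hdeg
    by_cases hnn : ∀ N : Subgroup K, N.Normal → Nat.card N ≠ r
    · exfalso
      have h13 := Cfsg.Agent.S4503.result r hr hrK hK2 hnn χ' hχc hfaith
      rw [hdeg] at h13
      obtain rfl : r = 13 := by omega
      obtain ⟨e⟩ := Cfsg.Agent.S4504.result 13 hr hrK hK2 hnn χ' hχc hfaith (by rw [hdeg])
      refine hpsl rfl (dvd_trans ?_ (Subgroup.card_subgroup_dvd_card K))
      refine dvd_trans ?_ (Subgroup.card_quotient_dvd_card (Subgroup.center K))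
      rw [Nat.card_congr e.toEquiv]
      have hodd : Odd (Fintype.card (ZMod 13)) := by rw [ZMod.card]; exact ⟨6, rfl⟩
      have h := CfsgLib.Linear.card_PSL_two_odd (F := ZMod 13) hodd
      rw [ZMod.card] at h
      refine Nat.Coprime.dvd_of_dvd_mul_left (k := 3) (m := 2) (by norm_num) ?_
      exact (show 3 ∣ 13 * (13 ^ 2 - 1) by norm_num).trans (dvd_of_eq h.symm)
    · push Not at hnn
      obtain ⟨N, hN, hNr⟩ := hnn
      have hS : Nat.card (S : Subgroup K) = r := by
        obtain ⟨i, hi⟩ := IsPGroup.iff_card.1 S.isPGroup'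
        have hi1 : i ≠ 0 := fun h0 => by
          have := S.dvd_card_of_dvd_card hrK
          rw [hi, h0, pow_zero] at this
          exact hr.one_lt.ne' (Nat.dvd_one.1 this)
        have hi2 : i ≤ 1 := by
          by_contra h0
          exact hK2 ((pow_dvd_pow r (by omega : 2 ≤ i)).trans (hi ▸ Subgroup.card_subgroup_dvd_card _))
        rw [hi, show i = 1 by omega, pow_one]
      obtain ⟨Q, hQ⟩ := (IsPGroup.of_card (n := 1) (by rw [hNr, pow_one]) : IsPGroup r N).exists_le_sylow
      obtain ⟨g, hg⟩ := MulAction.exists_smul_eq K Q S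
      have hQN : N = (Q : Subgroup K) := Subgroup.eq_of_le_of_card_ge hQ (by
        rw [hNr, Q.card_eq_multiplicity, ← S.card_eq_multiplicity, hS])
      haveI : (Q : Subgroup K).Normal := hQN ▸ hN
      rw [← hg, Sylow.smul_eq_of_normal]
      infer_instance
  have hRn := Cfsg.Agent.S0899.result 6 τ hτ r (Or.inr ⟨by omega, hK⟩) R
  haveI := hRn
  set A : Subgroup G := (Subgroup.center (R : Subgroup G)).map (R : Subgroup G).subtype with hA
  haveI : A.Normal := inferInstance
  have hrA : r ∣ Nat.card A := by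
    have hrR : r ∣ Nat.card (R : Subgroup G) := R.dvd_card_of_dvd_card (hrd.trans hdiv)
    haveI : Nontrivial (R : Subgroup G) :=
      Finite.one_lt_card_iff_nontrivial.1 (lt_of_lt_of_le hr.one_lt (Nat.le_of_dvd Nat.card_pos hrR))
    haveI := R.isPGroup'.center_nontrivial
    obtain ⟨i, hi⟩ := IsPGroup.iff_card.1
      (R.isPGroup'.to_subgroup (Subgroup.center (R : Subgroup G)))
    rw [hA, Subgroup.card_map_of_injective (Subgroup.subtype_injective _), hi]
    refine dvd_pow_self _ ?_
    rintro rfl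
    rw [pow_zero] at hi
    exact absurd (Finite.one_lt_card (α := Subgroup.center (R : Subgroup G))) (by omega)
  refine good_of_abelian_normal ρ hρ htrans hco A ?_ fun d hd hdvd => ?_
  · rintro _ ⟨x, hx, rfl⟩ _ ⟨y, -, rfl⟩
    rw [← map_mul, ← map_mul, Subgroup.mem_center_iff.1 hx y]
  rw [h6] at hd ⊢
  have hd6 : d ≤ 6 := Nat.le_of_dvd (by norm_num) hd
  interval_cases d
  all_goals first | (norm_num at hd; done) | skip
  · exact absurd (hrA.trans hdvd) hr12.1
  · exact absurd (hrA.trans hdvd) hr12.2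
  · exact Or.inr ⟨rfl, hp2, 7, by norm_num, h7.trans hdiv, by norm_num, h73, by norm_num, by norm_num⟩
  · exact Or.inl rfl

/-- Dimension four over three elements. -/
theorem good_three_four (ρ : G →* (V ≃ₗ[ZMod p] V)) (hρ : Function.Injective ρ)
    (htrans : ∀ v w : V, v ≠ 0 → w ≠ 0 → ∃ g : G, ρ g v = w) (hco : ¬ p ∣ Nat.card G) (hp : p = 3)
    (h4 : Module.finrank (ZMod p) V = 4) : Good ρ := by
  classical
  subst hp
  have h80 : 80 ∣ Nat.card G := by
    have := RegLinear.card_sub_one_dvd ρ htrans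
    rwa [natCard_space (p := 3), h4] at this
  haveI : Module.Finite (ZMod 3) V := Module.Finite.of_finite
  let b := Module.finBasisOfFinrankEq (ZMod 3) V h4
  let f : G →* Matrix (Fin 4) (Fin 4) (ZMod 3) :=
    { toFun := fun g => LinearMap.toMatrixAlgEquiv b (ρ g).toLinearMap
      map_one' := by
        rw [map_one]
        exact map_one (LinearMap.toMatrixAlgEquiv b)
      map_mul' := fun g h => by
        rw [map_mul]
        exact map_mul (LinearMap.toMatrixAlgEquiv b) _ _ }
  have hf : Function.Injective f.toHomUnits := fun g h e => hρ (LinearEquiv.toLinearMap_injective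
    ((LinearMap.toMatrixAlgEquiv b).injective (congrArg Units.val e)))
  have hGL : Nat.card G ∣ 2 ^ 9 * 5 * 13 := by
    have h1 : Nat.card G ∣ Nat.card (GL (Fin 4) (ZMod 3)) := Subgroup.card_dvd_of_injective _ hf
    rw [Matrix.card_GL_field, Fin.prod_univ_four] at h1
    simp only [ZMod.card, Fin.val_zero, Fin.val_one, Fin.val_two] at h1
    norm_num at h1
    refine (Nat.Coprime.pow_right 6 ((Nat.prime_three.coprime_iff_not_dvd.2 hco).symm)).dvd_of_dvd_mul_left
      (m := 3 ^ 6) ?_
    norm_num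
    exact h1
  by_cases h13 : 13 ∣ Nat.card G
  · obtain ⟨χ, hχc, hfaith, hdeg⟩ := exists_faithful_character ρ hρ hco
    haveI : Fact (Nat.Prime 13) := ⟨by norm_num⟩
    have hsq : ¬ 13 ^ 2 ∣ Nat.card G := fun h => by
      have := h.trans hGL
      norm_num at this
    by_cases hnn : ∀ N : Subgroup G, N.Normal → Nat.card N ≠ 13
    · exfalso
      have := Cfsg.Agent.S4503.result 13 (by norm_num) h13 hsq hnn χ hχc hfaith
      rw [hdeg, h4] at this
      omega
    push Not at hnn
    obtain ⟨N, hN, hN13⟩ := hnn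
    haveI := hN
    haveI : IsCyclic N := isCyclic_of_prime_card hN13
    letI := IsCyclic.commGroup (α := N)
    refine good_of_abelian_normal ρ hρ htrans hco N
      (fun x hx y hy => congrArg Subtype.val (mul_comm (⟨x, hx⟩ : N) ⟨y, hy⟩)) fun d hd hdvd => ?_
    exfalso
    rw [h4] at hd
    rw [hN13] at hdvd
    have := Nat.le_of_dvd (by norm_num) hd
    interval_cases d <;> first | (norm_num at hd; done) | (norm_num at hdvd; done)
  by_cases hbig : ∃ A : Subgroup G, A.Normal ∧ (∀ x ∈ A, ∀ y ∈ A, x * y = y * x) ∧ 2 < Nat.card A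
  · obtain ⟨A, hAn, hAc, hA2⟩ := hbig
    haveI := hAn
    refine good_of_abelian_normal ρ hρ htrans hco A hAc fun d hd hdvd => ?_
    rw [h4] at hd ⊢
    have := Nat.le_of_dvd (by norm_num) hd
    interval_cases d
    · norm_num at hd
    · exfalso
      have := Nat.le_of_dvd (by norm_num) hdvd
      omega
    · exact Or.inr ⟨rfl, by norm_num, 5, by norm_num, (by norm_num : 5 ∣ 80).trans h80, by norm_num,
        by norm_num, le_rfl, fun _ => hco⟩
    · norm_num at hd
    · exact Or.inl rfl
  push Not at hbig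
  have h5 : Nat.card G ∣ 2 ^ 9 * 5 := ((show Nat.Prime 13 by norm_num).coprime_iff_not_dvd.2 h13).symm.dvd_of_dvd_mul_right hGL
  obtain ⟨i, j, hi, hj, hij⟩ := Nat.dvd_mul.1 h5
  obtain ⟨a, -, rfl⟩ := (Nat.dvd_prime_pow Nat.prime_two).1 hi
  rcases (Nat.dvd_prime (show Nat.Prime 5 by norm_num)).1 hj with rfl | rfl
  · exfalso
    rw [mul_one] at hij
    have h := (show Nat.Prime 5 by norm_num).dvd_of_dvd_pow
      (hij ▸ (by norm_num : 5 ∣ 80).trans h80 : 5 ∣ 2 ^ a)
    norm_num at h
  exact good_of_eightyOne_aux ρ hρ htrans h4 hij.symm fun A h1 h2 => hbig A h1 h2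

/-- **The class number bound for coprime transitive linear groups.** -/
theorem good (ρ : G →* (V ≃ₗ[ZMod p] V)) (hρ : Function.Injective ρ)
    (htrans : ∀ v w : V, v ≠ 0 → w ≠ 0 → ∃ g : G, ρ g v = w) (hco : ¬ p ∣ Nat.card G) : Good ρ := by
  have hp : p.Prime := Fact.out
  haveI : Module.Finite (ZMod p) V := Module.Finite.of_finite
  set n := Module.finrank (ZMod p) V with hn
  have hn0 : 0 < n := Module.finrank_pos
  by_cases h1 : n = 1
  · refine good_of_abelian_normal ρ hρ htrans hco ⊥ (fun x hx y hy => by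
      rw [Subgroup.mem_bot.1 hx, Subgroup.mem_bot.1 hy]) fun d hd _ => Or.inl ?_
    rw [← hn, h1] at hd ⊢
    exact Nat.dvd_one.1 hd
  by_cases h2 : n = 2
  · exact good_of_finrank_two ρ hρ htrans hco h2
  have hn3 : 3 ≤ n := by omega
  by_cases hx2 : p = 2 ∧ (n = 4 ∨ n = 6 ∨ n = 10 ∨ n = 12 ∨ n = 18)
  · exact good_char_two ρ hρ htrans hco hx2.1 (by omega) (by omega)
  by_cases hx3 : p = 3 ∧ (n = 4 ∨ n = 6)
  · obtain ⟨h3, h4 | h6⟩ := hx3
    · exact good_three_four ρ hρ htrans hco h3 h4
    · subst h3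
      exact good_six ρ hρ htrans hco (by norm_num) h6 (r := 13) (by norm_num) le_rfl (fun _ => hco)
        (by norm_num) ⟨by norm_num, by norm_num⟩ (by norm_num) (by norm_num)
  by_cases hx5 : p = 5 ∧ n = 6
  · obtain ⟨h5, h6⟩ := hx5
    subst h5
    exact good_six ρ hρ htrans hco (by norm_num) h6 (r := 31) (by norm_num) (by norm_num)
      (fun h => by norm_num at h) (by norm_num) ⟨by norm_num, by norm_num⟩ (by norm_num) (by norm_num)
  obtain ⟨r, hr, hrd, hprim, hlarge⟩ := Cfsg.Agent.S3430.result p n hp.two_le (by omega)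
    (fun h => h2 h.1) hx2 hx3 hx5
  haveI := Fact.mk hr
  have hcast : ∀ i, (p : ZMod r) ^ i = 1 ↔ r ∣ p ^ i - 1 := fun i => by
    rw [← CharP.cast_eq_zero_iff (ZMod r) r, Nat.cast_sub (Nat.one_le_pow _ _ hp.pos), sub_eq_zero]
    push_cast
    exact Iff.rfl
  have hord : orderOf (p : ZMod r) = n := by
    rw [orderOf_eq_iff (by omega)]
    exact ⟨(hcast n).2 hrd, fun i hi hi0 h => hprim i hi0 hi ((hcast i).1 h)⟩
  refine good_of_ppd ρ hρ htrans hco hn3 hr hord ?_
  rw [← hn]
  rcases hlarge with h | h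
  · left
    obtain ⟨m, hm⟩ := (show CfsgLib.FgsSix.SolvableLinear.Ppd p r n from ⟨hr, hord⟩).dvd_sub_one
      (by omega)
    have hm2 : 2 ≤ m := by
      by_contra hc
      have : n * m ≤ n * 1 := Nat.mul_le_mul_left _ (by omega)
      omega
    have : n * 2 ≤ n * m := Nat.mul_le_mul_left _ hm2
    omega
  · right
    refine h.trans ?_
    have := RegLinear.card_sub_one_dvd ρ htrans
    rwa [natCard_space (p := p), ← hn] at this

/-- Isomorphic groups have equally many classes. -/
theorem classes_congr {A B : Type*} [Group A] [Group B] [Finite A] [Finite B] (e : A ≃* B) :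
    Nat.card (ConjClasses A) = Nat.card (ConjClasses B) := by
  refine le_antisymm ?_ ?_
  · exact Nat.card_le_card_of_surjective (ConjClasses.map (e.symm : B →* A))
      (ConjClasses.map_surjective e.symm.surjective)
  · exact Nat.card_le_card_of_surjective (ConjClasses.map (e : A →* B))
      (ConjClasses.map_surjective e.surjective)

end CfsgLib.FGS74.TransKGV
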