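import Cfsg.Agent.FGS74.TransKGV.Field
import Cfsg.Agent.CoprimeTransitive.Lift
import Cfsg.Agent.Codegree.Kernel
import Cfsg.Agent.Characters.RepBasic
import Cfsg.Agent.FgsSix.SolvableLinear.Basic
import Cfsg.Agent.RegularLinear.Transitive
import Cfsg.Agent.S4485
import Cfsg.Agent.S4503
import Cfsg.Agent.S4504
import Cfsg.Agent.Linear.Basic

/-!
# The bound in the presence of a large primitive prime divisor
-/

set_option autoImplicit false
set_option linter.style.haveILetI false
set_option linter.unusedSectionVars false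
set_option linter.unusedTactic false

namespace CfsgLib.FGS74.TransKGV

universe u

variable {p : ℕ} [Fact p.Prime] {V : Type u} [AddCommGroup V] [Module (ZMod p) V] [Finite V]
  [Nontrivial V] {G : Type*} [Group G] [Finite G]

/-- A faithful complex character of the degree of the dimension. -/
theorem exists_faithful_character (ρ : G →* (V ≃ₗ[ZMod p] V)) (hρ : Function.Injective ρ)
    (hco : ¬ p ∣ Nat.card G) : ∃ χ : G → ℂ, Cfsg.IsCharacter G χ ∧
      (∀ g : G, χ g = χ 1 → g = 1) ∧ Cfsg.charDegree χ = Module.finrank (ZMod p) V := by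
  classical
  haveI : Module.Finite (ZMod p) V := Module.Finite.of_finite
  set n := Module.finrank (ZMod p) V with hn
  let b := Module.finBasisOfFinrankEq (ZMod p) V hn.symm
  let f : G →* Matrix (Fin n) (Fin n) (ZMod p) :=
    { toFun := fun g => LinearMap.toMatrixAlgEquiv b (ρ g).toLinearMap
      map_one' := by
        rw [map_one]
        exact map_one (LinearMap.toMatrixAlgEquiv b)
      map_mul' := fun g h => by
        rw [map_mul]
        exact map_mul (LinearMap.toMatrixAlgEquiv b) _ _ }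
  have hf : Function.Injective f := fun g h e => hρ (LinearEquiv.toLinearMap_injective
    ((LinearMap.toMatrixAlgEquiv b).injective e))
  obtain ⟨τ, hτ⟩ := CoprimeTrans.exists_character (p := p)
    (((Fact.out : p.Prime).coprime_iff_not_dvd.2 hco).symm) f hf
  refine ⟨τ.character, CfsgLib.Characters.isCharacter_character τ, fun g hg =>
    hτ (((CfsgLib.Codegree.char_eq_one_iff τ g).1 hg).trans (map_one τ).symm), ?_⟩
  rw [Cfsg.charDegree, Representation.char_one, Module.finrank_fin_fun]
  simp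

/-- The centraliser of an element of primitive prime order is commutative. -/
theorem commute_of_commute_ppd (ρ : G →* (V ≃ₗ[ZMod p] V)) (hρ : Function.Injective ρ) {r : ℕ}
    (hr : r.Prime) (hord : orderOf (p : ZMod r) = Module.finrank (ZMod p) V) {w : G}
    (hw : orderOf w = r) {a b : G} (ha : Commute a w) (hb : Commute b w) : Commute a b := by
  haveI : Module.Finite (ZMod p) V := Module.Finite.of_finite
  have hn0 : Module.finrank (ZMod p) V ≠ 0 := (Module.finrank_pos).ne'
  let φ : G →* Module.End (ZMod p) V :=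
    { toFun := fun g => (ρ g).toLinearMap
      map_one' := by rw [map_one]; rfl
      map_mul' := fun g h => by rw [map_mul]; rfl }
  have hφ : Function.Injective φ := fun g h e => hρ (LinearEquiv.toLinearMap_injective e)
  have hx : φ.toHomUnits w ^ r = 1 := by rw [← map_pow, ← hw, pow_orderOf_eq_one, map_one]
  have hx1 : φ.toHomUnits w ≠ 1 := fun h => by
    have h1 : w = 1 := hφ (by
      have := congrArg Units.val h
      rwa [MonoidHom.coe_toHomUnits, Units.val_one, ← map_one φ] at this)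
    rw [h1, orderOf_one] at hw
    exact hr.one_lt.ne hw
  have hirr := CfsgLib.FgsSix.SolvableLinear.irred_of_ppd (p := p) rfl hn0 ⟨hr, hord⟩ hx hx1
  have hmem : ∀ c : G, Commute c w → φ c ∈ CfsgLib.FgsSix.SolvableLinear.commutant
      ((φ.toHomUnits w : (Module.End (ZMod p) V)ˣ) : Module.End (ZMod p) V) := fun c hc => by
    rw [CfsgLib.FgsSix.SolvableLinear.mem_commutant, MonoidHom.coe_toHomUnits, ← map_mul, ← map_mul,
      hc.eq]
  refine hφ ?_
  rw [map_mul, map_mul]
  exact CfsgLib.FgsSix.SolvableLinear.commutant_comm rfl hn0 hirr _ (hmem a ha) _ (hmem b hb)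

theorem six_dvd_pslOrder (n : ℕ) : 2 ∣ (2 * n + 1) * (2 * n) * (n + 1) ∧
    3 ∣ (2 * n + 1) * (2 * n) * (n + 1) := by
  refine ⟨Dvd.dvd.mul_right (Dvd.dvd.mul_left (dvd_mul_right 2 n) _) _, ?_⟩
  obtain ⟨k, hk | hk | hk⟩ : ∃ k, n = 3 * k ∨ n = 3 * k + 1 ∨ n = 3 * k + 2 := ⟨n / 3, by omega⟩
  · exact Dvd.dvd.mul_right (Dvd.dvd.mul_left (Dvd.intro (2 * k) (by rw [hk]; ring)) _) _
  · exact Dvd.dvd.mul_right (Dvd.dvd.mul_right (Dvd.intro (2 * k + 1) (by rw [hk]; ring)) _) _
  · exact Dvd.dvd.mul_left (Dvd.intro (k + 1) (by rw [hk]; ring)) _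

theorem psl_sq_lt {n : ℕ} (hn : 11 ≤ n) : ((2 * n + 1) * (2 * n) * (n + 1)) ^ 2 < 5 ^ n := by
  induction n, hn using Nat.le_induction with
  | base => norm_num
  | succ k hk ih =>
    have h1 : (2 * (k + 1) + 1) * (2 * (k + 1)) * (k + 1 + 1) ≤
        2 * ((2 * k + 1) * (2 * k) * (k + 1)) := by
      have : (2 * k + 3) * (k + 2) ≤ 2 * ((2 * k + 1) * k) := by nlinarith
      calc (2 * (k + 1) + 1) * (2 * (k + 1)) * (k + 1 + 1)
          = (2 * k + 3) * (k + 2) * (2 * (k + 1)) := by ring
        _ ≤ 2 * ((2 * k + 1) * k) * (2 * (k + 1)) := Nat.mul_le_mul_right _ this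
        _ = _ := by ring
    calc _ ≤ (2 * ((2 * k + 1) * (2 * k) * (k + 1))) ^ 2 := Nat.pow_le_pow_left h1 2
      _ = 4 * ((2 * k + 1) * (2 * k) * (k + 1)) ^ 2 := by ring
      _ < 4 * 5 ^ k := Nat.mul_lt_mul_of_pos_left ih (by norm_num)
      _ ≤ 5 * 5 ^ k := Nat.mul_le_mul_right _ (by norm_num)
      _ = _ := by ring

/-- `PSL(2, 2n + 1)` does not occur. -/
theorem psl_arith {p n d z : ℕ} (hp : p.Prime) (hn : 3 ≤ n) (hr : (2 * n + 1).Prime)
    (hord : orderOf (p : ZMod (2 * n + 1)) = n) (hpP : ¬ p ∣ (2 * n + 1) * (2 * n) * (n + 1))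
    (hd : d ∣ n) (hdn : d ≠ n) (hz : z ∣ p ^ d - 1) (hz0 : 0 < z)
    (hdiv : p ^ n - 1 ∣ z * ((2 * n + 1) * (2 * n) * (n + 1))) : False := by
  set P := (2 * n + 1) * (2 * n) * (n + 1) with hP
  have hp5 : 5 ≤ p := by
    obtain ⟨h2, h3⟩ := six_dvd_pslOrder n
    have := hp.two_le
    have : p ≠ 2 := fun h => hpP (h ▸ h2)
    have : p ≠ 3 := fun h => hpP (h ▸ h3)
    have : p ≠ 4 := fun h => by rw [h] at hp; norm_num at hp
    omega
  have hd0 : 0 < d := Nat.pos_of_dvd_of_pos hd (by omega)
  have hd2 : 2 * d ≤ n := by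
    obtain ⟨c, hc⟩ := hd
    rcases c with _ | _ | c
    · omega
    · omega
    · have : d * 2 ≤ d * (c + 1 + 1) := Nat.mul_le_mul_left _ (by omega)
      omega
  have hP2 : 2 ≤ P := Nat.le_of_dvd (by positivity) (six_dvd_pslOrder n).1
  have hpd : p ≤ p ^ d := Nat.le_self_pow (by omega) p
  have hlt : p ^ (n - d) < P := by
    have hle := Nat.le_of_dvd (Nat.mul_pos hz0 (by omega)) hdiv
    have hzle : z ≤ p ^ d - 1 := Nat.le_of_dvd (by omega) hz
    have h1 : z * P + P ≤ p ^ d * P := by
      rw [← Nat.succ_mul]; exact Nat.mul_le_mul_right _ (by omega)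
    by_contra h
    have h2 : p ^ d * P ≤ p ^ d * p ^ (n - d) := Nat.mul_le_mul_left _ (by omega)
    rw [← pow_add, Nat.add_sub_cancel' (by omega)] at h2
    omega
  have h5n : p ^ n < P ^ 2 := by
    calc p ^ n ≤ p ^ (2 * (n - d)) := Nat.pow_le_pow_right hp.pos (by omega)
      _ = (p ^ (n - d)) ^ 2 := by rw [← pow_mul, mul_comm]
      _ < P ^ 2 := Nat.pow_lt_pow_left hlt two_ne_zero
  have hn11 : n < 11 := by
    by_contra hc
    have := psl_sq_lt (show 11 ≤ n by omega)
    have := Nat.pow_le_pow_left hp5 n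
    rw [← hP] at *
    omega
  have hordn : (p : ZMod (2 * n + 1)) ^ n = 1 := orderOf_dvd_iff_pow_eq_one.1 (by rw [hord])
  interval_cases n
  all_goals first | (norm_num at hr; done) | skip
  · -- n = 3
    obtain rfl : d = 1 := by omega
    have hp12 : p ≤ 12 := by
      by_contra hc
      have : 13 ^ 2 ≤ p ^ (3 - 1) := Nat.pow_le_pow_left (by omega) 2
      omega
    interval_cases p
    all_goals first
      | (norm_num at hp; done)
      | (revert hordn; decide)
      | (refine absurd ?_ hpP; rw [hP]; norm_num; done)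
      | skip
    have hz10 : z ∣ 10 := by simpa using hz
    have := Nat.le_of_dvd (by norm_num) hz10
    obtain ⟨c, hc⟩ := hdiv
    rw [hP] at hc
    norm_num at hc
    omega
  · -- n = 5
    obtain rfl : d = 1 := by
      rcases (Nat.dvd_prime (show Nat.Prime 5 by norm_num)).1 hd with h | h <;> omega
    have hp5' : p = 5 := by
      by_contra hc
      have : 6 ^ 4 ≤ p ^ (5 - 1) := Nat.pow_le_pow_left (by omega) 4
      omega
    exact hpP (by rw [hP, hp5']; norm_num)
  · -- n = 6
    have hp10 : p ≤ 10 := by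
      by_contra hc
      have : 11 ^ 3 ≤ p ^ 3 := Nat.pow_le_pow_left (by omega) 3
      have : p ^ 3 ≤ p ^ (6 - d) := Nat.pow_le_pow_right hp.pos (by omega)
      omega
    interval_cases p
    all_goals first
      | (norm_num at hp; done)
      | (revert hordn; decide)
      | (refine absurd ?_ hpP; rw [hP]; norm_num; done)
  · -- n = 8
    have hp7 : p ≤ 7 := by
      by_contra hc
      have : 8 ^ 4 ≤ p ^ 4 := Nat.pow_le_pow_left (by omega) 4
      have : p ^ 4 ≤ p ^ (8 - d) := Nat.pow_le_pow_right hp.pos (by omega)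
      omega
    interval_cases p
    all_goals first
      | (norm_num at hp; done)
      | (revert hordn; decide)
  · -- n = 9
    have hd3 : d ≤ 3 := by
      have : d ≤ 4 := by omega
      interval_cases d <;> first | omega | (norm_num at hd; done)
    have : 5 ^ 6 ≤ p ^ 6 := Nat.pow_le_pow_left hp5 6
    have : p ^ 6 ≤ p ^ (9 - d) := Nat.pow_le_pow_right hp.pos (by omega)
    omega

/-- A primitive prime with a normal Sylow subgroup gives the bound. -/
theorem good_of_normal_sylow (ρ : G →* (V ≃ₗ[ZMod p] V)) (hρ : Function.Injective ρ)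
    (htrans : ∀ v w : V, v ≠ 0 → w ≠ 0 → ∃ g : G, ρ g v = w) (hco : ¬ p ∣ Nat.card G) {r : ℕ}
    [Fact r.Prime] (hord : orderOf (p : ZMod r) = Module.finrank (ZMod p) V)
    (R : Subgroup G) [R.Normal] (hR : IsPGroup r R) (hR1 : R ≠ ⊥) : Good ρ := by
  have hr : r.Prime := Fact.out
  haveI : Nontrivial R := (Subgroup.nontrivial_iff_ne_bot R).2 hR1
  obtain ⟨z, hz⟩ := exists_prime_orderOf_dvd_card' (G := Subgroup.center R) r (by
    haveI := hR.center_nontrivial
    obtain ⟨b, hb⟩ := IsPGroup.iff_card.1 (hR.to_subgroup (Subgroup.center R))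
    rw [hb]
    refine dvd_pow_self _ ?_
    rintro rfl
    rw [pow_zero] at hb
    exact absurd (Finite.one_lt_card (α := Subgroup.center R)) (by omega))
  have hx : orderOf ((z : R) : G) = r := by rw [Subgroup.orderOf_coe, Subgroup.orderOf_coe, hz]
  have hRx : ∀ y ∈ R, Commute y ((z : R) : G) := fun y hy =>
    congrArg Subtype.val (Subgroup.mem_center_iff.1 z.2 ⟨y, hy⟩)
  refine good_of_abelian_normal ρ hρ htrans hco R
    (fun a ha b hb => (commute_of_commute_ppd ρ hρ hr hord hx (hRx a ha) (hRx b hb)).eq)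
    fun d hdn hdvd => Or.inl ?_
  obtain ⟨b, hb⟩ := IsPGroup.iff_card.1 hR
  have hrR : r ∣ Nat.card R := by
    rw [hb]
    refine dvd_pow_self _ ?_
    rintro rfl
    rw [pow_zero] at hb
    exact absurd (Finite.one_lt_card (α := R)) (by omega)
  exact Nat.dvd_antisymm hdn
    ((show CfsgLib.FgsSix.SolvableLinear.Ppd p r _ from ⟨hr, hord⟩).dvd_of_dvd (hrR.trans hdvd))

/-- **Dimension at least three with a large primitive prime divisor.** -/
theorem good_of_ppd (ρ : G →* (V ≃ₗ[ZMod p] V)) (hρ : Function.Injective ρ)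
    (htrans : ∀ v w : V, v ≠ 0 → w ≠ 0 → ∃ g : G, ρ g v = w) (hco : ¬ p ∣ Nat.card G)
    (hn : 3 ≤ Module.finrank (ZMod p) V) {r : ℕ} (hr : r.Prime)
    (hord : orderOf (p : ZMod r) = Module.finrank (ZMod p) V)
    (hlarge : 2 * Module.finrank (ZMod p) V + 1 ≤ r ∨ r ^ 2 ∣ Nat.card G) : Good ρ := by
  classical
  haveI := Fact.mk hr
  have hp : p.Prime := Fact.out
  set n := Module.finrank (ZMod p) V with hndef
  have hq : Nat.card V = p ^ n := natCard_space
  have hdiv : p ^ n - 1 ∣ Nat.card G := hq ▸ RegLinear.card_sub_one_dvd ρ htrans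
  have hppd : CfsgLib.FgsSix.SolvableLinear.Ppd p r n := ⟨hr, hord⟩
  have hrd : r ∣ Nat.card G := (hppd.dvd dvd_rfl).trans hdiv
  have hnr : n + 1 ≤ r := hppd.lt (by omega)
  obtain ⟨χ, hχc, hfaith, hdeg⟩ := exists_faithful_character ρ hρ hco
  obtain ⟨R⟩ : Nonempty (Sylow r G) := inferInstance
  obtain ⟨a, ha⟩ := IsPGroup.iff_card.1 R.isPGroup'
  have hrR : r ∣ Nat.card (R : Subgroup G) := R.dvd_card_of_dvd_card hrd
  have hR1 : (R : Subgroup G) ≠ ⊥ := fun h => by
    rw [h, Subgroup.card_bot] at hrR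
    exact hr.one_lt.ne' (Nat.dvd_one.1 hrR)
  have hnormal : (R : Subgroup G).Normal → Good ρ := fun hN =>
    haveI := hN
    good_of_normal_sylow ρ hρ htrans hco hord _ R.isPGroup' hR1
  by_cases hbig : n ^ 2 + 1 < r ^ a
  · refine hnormal (Cfsg.Agent.S4485.result r hr hrd R (fun y hy hy1 => ?_) a ha χ hχc hfaith
      (by rw [hdeg]; exact hbig))
    refine le_antisymm ?_ (Subgroup.centralizer_le (Set.singleton_subset_iff.2 hy))
    haveI : Nontrivial (R : Subgroup G) := (Subgroup.nontrivial_iff_ne_bot _).2 hR1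
    obtain ⟨z, hz⟩ := exists_prime_orderOf_dvd_card' (G := Subgroup.center (R : Subgroup G)) r (by
      haveI := R.isPGroup'.center_nontrivial
      obtain ⟨b, hb⟩ := IsPGroup.iff_card.1
        (R.isPGroup'.to_subgroup (Subgroup.center (R : Subgroup G)))
      rw [hb]
      refine dvd_pow_self _ ?_
      rintro rfl
      rw [pow_zero] at hb
      exact absurd (Finite.one_lt_card (α := Subgroup.center (R : Subgroup G))) (by omega))
    set x : G := ((z : (R : Subgroup G)) : G) with hxdef
    have hx : orderOf x = r := by rw [hxdef, Subgroup.orderOf_coe, Subgroup.orderOf_coe, hz]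
    have hRx : ∀ s ∈ (R : Subgroup G), Commute s x := fun s hs =>
      congrArg Subtype.val (Subgroup.mem_center_iff.1 z.2 ⟨s, hs⟩)
    obtain ⟨b, hb⟩ := IsPGroup.iff_orderOf.1 R.isPGroup' ⟨y, hy⟩
    have hb0 : b ≠ 0 := fun h => hy1 (by
      rw [h, pow_zero, orderOf_eq_one_iff] at hb
      exact congrArg Subtype.val hb)
    rw [← Subgroup.orderOf_coe] at hb
    set w := y ^ r ^ (b - 1) with hwdef
    have hw : orderOf w = r := by
      have hdd : r ^ (b - 1) ∣ orderOf y := by rw [hb]; exact pow_dvd_pow r (Nat.sub_le b 1)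
      rw [hwdef, orderOf_pow_of_dvd (pow_ne_zero _ hr.ne_zero) hdd, hb,
        Nat.pow_div (Nat.sub_le b 1) hr.pos, show b - (b - 1) = 1 by omega, pow_one]
    intro c hc s hs
    rw [Subgroup.mem_centralizer_singleton_iff] at hc
    have hcw : Commute c w := (show Commute c y from hc).pow_right _
    have hxy : Commute x w := ((hRx y hy).symm).pow_right _
    have hcx : Commute c x := commute_of_commute_ppd ρ hρ hr hord hw hcw hxy
    exact (commute_of_commute_ppd ρ hρ hr hord hx (hRx s hs) hcx).eq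
  have ha1 : a = 1 := by
    have h1 : a ≠ 0 := fun h => by
      rw [h, pow_zero] at ha
      rw [ha] at hrR
      exact hr.one_lt.ne' (Nat.dvd_one.1 hrR)
    by_contra hne
    exact hbig (lt_of_lt_of_le (show n ^ 2 + 1 < (n + 1) ^ 2 by nlinarith)
      ((Nat.pow_le_pow_left hnr 2).trans (Nat.pow_le_pow_right hr.pos (by omega))))
  subst ha1
  rw [pow_one] at ha
  have hsq : ¬ r ^ 2 ∣ Nat.card G := fun h => by
    obtain ⟨S, hS⟩ := Sylow.exists_subgroup_card_pow_prime r h
    obtain ⟨Q, hQ⟩ := (IsPGroup.of_card hS).exists_le_sylow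
    have := Subgroup.card_dvd_of_le hQ
    rw [hS, Q.card_eq_multiplicity, ← R.card_eq_multiplicity, ha] at this
    have := Nat.le_of_dvd hr.pos this
    nlinarith
  have hr2n : 2 * n + 1 ≤ r := hlarge.resolve_right hsq
  by_cases hnn : ∀ N : Subgroup G, N.Normal → Nat.card N ≠ r
  · exfalso
    rcases hr2n.lt_or_eq with hlt | heq
    · have := Cfsg.Agent.S4503.result r hr hrd hsq hnn χ hχc hfaith
      omega
    obtain ⟨e⟩ := Cfsg.Agent.S4504.result r hr hrd hsq hnn χ hχc hfaith (by omega)
    subst heq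
    have hodd : Odd (Fintype.card (ZMod (2 * n + 1))) := by rw [ZMod.card]; exact ⟨n, by ring⟩
    have hpsl := CfsgLib.Linear.card_PSL_two_odd (F := ZMod (2 * n + 1)) hodd
    rw [ZMod.card] at hpsl
    have hsq1 : (2 * n + 1) ^ 2 - 1 = 2 * (2 * n * (n + 1)) := Nat.sub_eq_of_eq_add (by ring)
    rw [hsq1] at hpsl
    have hcard : Nat.card G =
        Nat.card (Subgroup.center G) * ((2 * n + 1) * (2 * n) * (n + 1)) := by
      rw [← (Subgroup.center G).card_mul_index, Subgroup.index_eq_card, Nat.card_congr e.toEquiv]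
      congr 1
      exact Nat.eq_of_mul_eq_mul_left two_pos (hpsl.trans (by ring))
    obtain ⟨K, _, _, _, ξ, τ, d, hd1, hK, -, hξ, -, hτ, hker⟩ :=
      RegLinear.exists_field_data ρ hρ htrans (Subgroup.center G)
        fun x hx y _ => (Subgroup.mem_center_iff.1 hx y).symm
    have hdn : d ∣ n := ⟨Module.finrank K V, Nat.pow_right_injective hp.two_le (by
      show p ^ n = p ^ (d * Module.finrank K V)
      rw [pow_mul, ← hK, ← hq]
      exact Module.natCard_eq_pow_finrank)⟩
    refine psl_arith hp hn hr hord ?_ hdn ?_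
      (by have := Subgroup.card_dvd_of_injective ξ hξ; rwa [Nat.card_units, hK] at this)
      Nat.card_pos (hcard ▸ hdiv)
    · intro h
      exact hco (hcard ▸ h.mul_left _)
    · -- otherwise the group would be abelian
      intro hde
      obtain ⟨v₀, hv₀⟩ := exists_ne (0 : V)
      have hsurj : Function.Surjective fun c : K => c • v₀ :=
        ((Nat.bijective_iff_injective_and_card (fun c : K => c • v₀)).2
          ⟨smul_left_injective K hv₀, by rw [hK, hde, hq]⟩).2
      have hlin : ∀ (g : G) (c : K) (w : V), ρ g (c • w) = c • ρ g w := fun g c w => by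
        rw [hτ, (hker g).2 fun x hx => Subgroup.mem_center_iff.1 hx g]; rfl
      have hall : ∀ g h : G, g * h = h * g := fun g h => hρ (LinearEquiv.ext fun w => by
        obtain ⟨c, rfl⟩ := hsurj w
        obtain ⟨x, hx⟩ := hsurj (ρ g v₀)
        obtain ⟨y, hy⟩ := hsurj (ρ h v₀)
        simp only at hx hy
        rw [map_mul, map_mul, LinearEquiv.mul_apply, LinearEquiv.mul_apply]
        simp only [hlin, ← hx, ← hy, smul_smul]
        congr 1
        ring)
      have htop : Subgroup.center G = ⊤ :=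
        eq_top_iff.2 fun g _ => Subgroup.mem_center_iff.2 fun h => hall h g
      rw [htop, Subgroup.card_top] at hcard
      have : 2 ≤ (2 * n + 1) * (2 * n) * (n + 1) :=
        Nat.le_of_dvd (by positivity) (six_dvd_pslOrder n).1
      have : 0 < Nat.card G := Nat.card_pos
      nlinarith
  · push Not at hnn
    obtain ⟨N, hN, hNr⟩ := hnn
    haveI := hN
    refine good_of_normal_sylow ρ hρ htrans hco hord N (IsPGroup.of_card (n := 1) (by rw [hNr, pow_one]))
      fun h => ?_
    rw [h, Subgroup.card_bot] at hNr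
    exact hr.one_lt.ne hNr

end CfsgLib.FGS74.TransKGV
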